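import Cfsg.Agent.Lib.ThreeTI.Mono.Tables
import Cfsg.Agent.Lib.ThreeTI.Cube.Vec
import Mathlib.GroupTheory.SemidirectProduct
import Mathlib.GroupTheory.Perm.Sign

/-!
The monomial group `3³ : S₄`, its action on nine points and its classes.
-/

set_option autoImplicit false
set_option maxRecDepth 40000

namespace Cfsg.Agent.ThreeTI.Mono

open Cfsg.Agent.ThreeTI.Cube (V)

/-- A rotation of the cube. -/
structure Rot where
  i : Fin 24
deriving DecidableEq, Fintype

instance : Mul Rot := ⟨fun a b => ⟨qMul a.i b.i⟩⟩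
instance : One Rot := ⟨⟨0⟩⟩
instance : Inv Rot := ⟨fun a => ⟨qInv a.i⟩⟩

instance : Group Rot where
  mul_assoc := by decide +kernel
  one_mul := by decide +kernel
  mul_one := by decide +kernel
  inv_mul_cancel := by decide +kernel

/-- A coordinate. -/
def coord (v : V) (j : Fin 3) : ZMod 3 := ![v.toAdd.1, v.toAdd.2.1, v.toAdd.2.2] j

/-- The signed permutation of the coordinates. -/
def actFn (q : Rot) (v : V) : V :=
  Multiplicative.ofAdd (qSgn q.i 0 * coord v (qSrc q.i 0), qSgn q.i 1 * coord v (qSrc q.i 1),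
    qSgn q.i 2 * coord v (qSrc q.i 2))

theorem actFn_inv : ∀ (q : Rot) (v : V), actFn q⁻¹ (actFn q v) = v := by decide +kernel

theorem actFn_mul : ∀ (q : Rot) (u v : V), actFn q (u * v) = actFn q u * actFn q v := by
  decide +kernel

theorem actFn_comp : ∀ (q r : Rot) (v : V), actFn (q * r) v = actFn q (actFn r v) := by
  decide +kernel

/-- The action of the rotations. -/
def phi : Rot →* MulAut V where
  toFun q :=
    { toFun := actFn q
      invFun := actFn q⁻¹
      left_inv := actFn_inv q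
      right_inv := fun v => by simpa using actFn_inv q⁻¹ v
      map_mul' := actFn_mul q }
  map_one' := by
    ext v : 1
    exact (by decide +kernel : ∀ v : V, actFn 1 v = v) v
  map_mul' q r := by
    ext v : 1
    exact actFn_comp q r v

/-- The monomial group. -/
abbrev Mo : Type := V ⋊[phi] Rot

instance : DecidableEq Mo := fun a b =>
  decidable_of_iff (a.left = b.left ∧ a.right = b.right)
    ⟨fun h => SemidirectProduct.ext h.1 h.2, fun h => h ▸ ⟨rfl, rfl⟩⟩

instance : Fintype Mo := Fintype.ofEquiv (V × Rot) SemidirectProduct.equivProd.symm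

theorem card_mo : Fintype.card Mo = 648 := by
  rw [Fintype.card_congr SemidirectProduct.equivProd, Fintype.card_prod]
  decide +kernel

/-- The elementary abelian normal subgroup. -/
abbrev inJ : V →* Mo := SemidirectProduct.inl

/-- The rotations as a subgroup. -/
abbrev inQ : Rot →* Mo := SemidirectProduct.inr

/-- The translations of three triples of points. -/
def trans9 : V →* Equiv.Perm (Fin 3 × ZMod 3) where
  toFun v := ⟨fun x => (x.1, x.2 + coord v x.1), fun x => (x.1, x.2 - coord v x.1),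
    fun x => by simp, fun x => by simp⟩
  map_one' := by decide +kernel
  map_mul' := by decide +kernel

/-- The rotations on nine points. -/
def rotFn (q : Rot) (x : Fin 3 × ZMod 3) : Fin 3 × ZMod 3 :=
  (qSrc (qInv q.i) x.1, qSgn q.i (qSrc (qInv q.i) x.1) * (x.2 + 1) - 1)

theorem rotFn_inv : ∀ (q : Rot) (x : Fin 3 × ZMod 3), rotFn q⁻¹ (rotFn q x) = x := by
  decide +kernel

theorem rotFn_mul : ∀ (q r : Rot) (x : Fin 3 × ZMod 3),
    rotFn (q * r) x = rotFn q (rotFn r x) := by decide +kernel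

/-- The rotations as permutations. -/
def rot9 : Rot →* Equiv.Perm (Fin 3 × ZMod 3) where
  toFun q := ⟨rotFn q, rotFn q⁻¹, rotFn_inv q, fun x => by simpa using rotFn_inv q⁻¹ x⟩
  map_one' := Equiv.ext fun x => (by decide +kernel : ∀ x, rotFn 1 x = x) x
  map_mul' q r := Equiv.ext fun x => rotFn_mul q r x

theorem compat9 : ∀ (q : Rot) (v : V) (x : Fin 3 × ZMod 3),
    trans9 (actFn q v) (rotFn q x) = rotFn q (trans9 v x) := by decide +kernel

/-- The action on three triples. -/
def mon9 : Mo →* Equiv.Perm (Fin 3 × ZMod 3) :=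
  SemidirectProduct.lift trans9 rot9 fun q => by
    refine MonoidHom.ext fun v => Equiv.ext fun x => ?_
    show trans9 (actFn q v) x = rotFn q (trans9 v (rotFn q⁻¹ x))
    rw [← compat9, show rotFn q (rotFn q⁻¹ x) = x by simpa using rotFn_inv q⁻¹ x]

/-- The action on nine points. -/
def perm9 : Mo →* Equiv.Perm (Fin 9) :=
  (Equiv.permCongrHom (finProdFinEquiv : Fin 3 × ZMod 3 ≃ Fin 9)).toMonoidHom.comp mon9

theorem perm9_injective : Function.Injective perm9 := by
  refine (injective_iff_map_eq_one perm9).2 fun m h => ?_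
  have h' : mon9 m = 1 := (Equiv.permCongrHom
    (finProdFinEquiv : Fin 3 × ZMod 3 ≃ Fin 9)).injective (h.trans (map_one _).symm)
  refine (by decide +kernel : ∀ (v : V) (q : Rot),
    (∀ x, trans9 v (rotFn q x) = x) → (⟨v, q⟩ : Mo) = 1) m.left m.right fun x => ?_
  exact congrArg (fun f : Equiv.Perm (Fin 3 × ZMod 3) => f x) h'

/-- The generators. -/
def gens : Set Mo :=
  {inJ (Multiplicative.ofAdd (1, 0, 0)), inQ ⟨qGen 0⟩, inQ ⟨qGen 1⟩, inQ ⟨qGen 2⟩}

theorem gens_eq : perm9 '' gens =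
    ({Equiv.swap (0 : Fin 9) 1 * Equiv.swap 1 2,
      Equiv.swap (0 : Fin 9) 3 * Equiv.swap 3 6 * (Equiv.swap (1 : Fin 9) 4 * Equiv.swap 4 7) *
        (Equiv.swap (2 : Fin 9) 5 * Equiv.swap 5 8),
      Equiv.swap (0 : Fin 9) 1 * Equiv.swap 3 4,
      Equiv.swap (0 : Fin 9) 3 * Equiv.swap 1 4 * Equiv.swap 2 5 * Equiv.swap 6 7} :
        Set (Equiv.Perm (Fin 9))) := by
  simp only [gens, Set.image_insert_eq, Set.image_singleton]
  rw [show perm9 (inJ (Multiplicative.ofAdd (1, 0, 0))) = Equiv.swap (0 : Fin 9) 1 * Equiv.swap 1 2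
      by decide +kernel,
    show perm9 (inQ ⟨qGen 0⟩) = Equiv.swap (0 : Fin 9) 3 * Equiv.swap 3 6 *
      (Equiv.swap (1 : Fin 9) 4 * Equiv.swap 4 7) * (Equiv.swap (2 : Fin 9) 5 * Equiv.swap 5 8)
      by decide +kernel,
    show perm9 (inQ ⟨qGen 1⟩) = Equiv.swap (0 : Fin 9) 1 * Equiv.swap 3 4 by decide +kernel,
    show perm9 (inQ ⟨qGen 2⟩) = Equiv.swap (0 : Fin 9) 3 * Equiv.swap 1 4 * Equiv.swap 2 5 *
      Equiv.swap 6 7 by decide +kernel]

theorem closure_gens : Subgroup.closure gens = ⊤ := by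
  refine top_unique fun m _ => ?_
  have hg : ∀ i, inQ ⟨qGen i⟩ ∈ Subgroup.closure gens := fun i => by
    refine Subgroup.subset_closure ?_
    fin_cases i <;> simp [gens]
  have hQ : ∀ q, inQ q ∈ Subgroup.closure gens := by
    intro q
    rw [(by decide +kernel : ∀ q : Rot, q = ((qWord q.i).map fun i => (⟨qGen i⟩ : Rot)).prod) q,
      map_list_prod, List.map_map]
    refine Subgroup.list_prod_mem _ fun x hx => ?_
    obtain ⟨i, -, rfl⟩ := List.mem_map.1 hx
    exact hg i
  have he : ∀ q : Rot, inJ (actFn q (Multiplicative.ofAdd (1, 0, 0))) ∈ Subgroup.closure gens := by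
    intro q
    rw [show actFn q (Multiplicative.ofAdd (1, 0, 0)) = phi q (Multiplicative.ofAdd (1, 0, 0)) from rfl,
      inJ, SemidirectProduct.inl_aut]
    exact mul_mem (mul_mem (hQ q) (Subgroup.subset_closure (by simp [gens]))) (hQ _)
  have hV : ∀ v, inJ v ∈ Subgroup.closure gens := by
    intro v
    obtain ⟨q₁, q₂, q₃, h⟩ := (by decide +kernel : ∃ q₁ q₂ q₃ : Rot,
      actFn q₁ (Multiplicative.ofAdd (1, 0, 0)) = Multiplicative.ofAdd (1, 0, 0) ∧
      actFn q₂ (Multiplicative.ofAdd (1, 0, 0)) = Multiplicative.ofAdd (0, 1, 0) ∧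
      actFn q₃ (Multiplicative.ofAdd (1, 0, 0)) = Multiplicative.ofAdd (0, 0, 1))
    have k1 := he q₁
    have k2 := he q₂
    have k3 := he q₃
    rw [h.1] at k1
    rw [h.2.1] at k2
    rw [h.2.2] at k3
    rw [(by decide +kernel : ∀ v : V, v = Multiplicative.ofAdd (1, 0, 0) ^ v.toAdd.1.val *
      Multiplicative.ofAdd (0, 1, 0) ^ v.toAdd.2.1.val *
      Multiplicative.ofAdd (0, 0, 1) ^ v.toAdd.2.2.val) v, map_mul, map_mul, map_pow, map_pow,
      map_pow]
    exact mul_mem (mul_mem (pow_mem k1 _) (pow_mem k2 _)) (pow_mem k3 _)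
  rw [← SemidirectProduct.inl_left_mul_inr_right m]
  exact mul_mem (hV _) (hQ _)

/-- The index of a translation. -/
def vIdx (v : V) : Fin 27 :=
  ⟨9 * v.toAdd.1.val + 3 * v.toAdd.2.1.val + v.toAdd.2.2.val, by
    have := v.toAdd.1.val_lt; have := v.toAdd.2.1.val_lt; have := v.toAdd.2.2.val_lt; omega⟩

/-- The translation with a given index. -/
def vOf (i : Fin 27) : V :=
  Multiplicative.ofAdd (((i.val / 9 : ℕ) : ZMod 3), ((i.val / 3 : ℕ) : ZMod 3), (i.val : ZMod 3))

/-- The class of an element. -/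
def cl (m : Mo) : Fin 14 := clTab m.right.i (vIdx m.left)

/-- Class representatives. -/
def rep (i : Fin 14) : Mo := ⟨vOf (repV i), ⟨repQ i⟩⟩

/-- A conjugating element. -/
def wit (m : Mo) : Mo := ⟨vOf (wvTab m.right.i (vIdx m.left)), ⟨wqTab m.right.i (vIdx m.left)⟩⟩

theorem conj_wit : ∀ m : Mo, wit m * rep (cl m) * (wit m)⁻¹ = m := by decide +kernel

theorem cl_conj_gen : ∀ m : Mo, ∀ g ∈ ([inJ (Multiplicative.ofAdd (1, 0, 0)), inQ ⟨qGen 0⟩,
    inQ ⟨qGen 1⟩, inQ ⟨qGen 2⟩] : List Mo), cl (g * m * g⁻¹) = cl m := by decide +kernel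

theorem cl_conj (a b : Mo) : cl (b * a * b⁻¹) = cl a := by
  have hb : b ∈ Subgroup.closure gens := closure_gens ▸ Subgroup.mem_top b
  induction hb using Subgroup.closure_induction generalizing a with
  | mem g hg =>
    refine cl_conj_gen a g ?_
    simpa [gens] using hg
  | one => simp
  | mul x y _ _ hx hy =>
    rw [show x * y * a * (x * y)⁻¹ = x * (y * a * y⁻¹) * x⁻¹ by group, hx, hy]
  | inv x _ hx =>
    conv_rhs => rw [show a = x * (x⁻¹ * a * x⁻¹⁻¹) * x⁻¹ by group, hx]

theorem real_class : ∀ m : Mo, cl m⁻¹ = cl m := by decide +kernel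

theorem isConj_of_cl {a b : Mo} (h : cl a = cl b) : IsConj a b := by
  have e1 : IsConj (rep (cl a)) a := isConj_iff.2 ⟨_, conj_wit a⟩
  have e2 : IsConj (rep (cl a)) b := h ▸ isConj_iff.2 ⟨_, conj_wit b⟩
  exact e1.symm.trans e2

theorem cl_of_isConj {a b : Mo} (h : IsConj a b) : cl a = cl b := by
  obtain ⟨k, rfl⟩ := isConj_iff.1 h
  exact (cl_conj a k).symm

theorem cl_rep : ∀ i : Fin 14, cl (rep i) = i := by decide +kernel

theorem rep_J : ∀ i : Fin 14, 5 ≤ i → i ≤ 7 → (rep i).right = 1 ∧ rep i ≠ 1 := by decide +kernel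

theorem power_in : ∀ m : Mo, 5 ≤ cl m → (m ^ powIn (cl m)).right = 1 ∧ m ^ powIn (cl m) ≠ 1 := by
  decide +kernel

end Cfsg.Agent.ThreeTI.Mono
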