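import Cfsg.Agent.Lib.ThreeTI.Mono.Main
import Cfsg.Agent.Lib.FiniteGroup.FittingPow
import Cfsg.Prelude.Def_Solvable
import Cfsg.Prelude.Def_TwoFusion

/-!
From the hypotheses on `J = O₃(H)` to the local model.
-/

set_option autoImplicit false
set_option maxRecDepth 40000
set_option linter.style.haveILetI false

namespace Cfsg.Agent.ThreeTI.Mono

open Cfsg Cfsg.Agent.LocalTI
open Cfsg.Agent.ThreeTI.Cube (V)

universe u

theorem rot_cube : ∀ q : Rot, q ^ 81 = 1 → q * q * q = 1 := by decide +kernel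

theorem rot_core : ∀ q : Rot, q * q * q = 1 → q ≠ 1 →
    ∃ g : Rot, (q * (g * q * g⁻¹)) * (q * (g * q * g⁻¹)) * (q * (g * q * g⁻¹)) ≠ 1 := by
  decide +kernel

theorem cent_card_J : ∀ v : V, v ≠ 1 →
    (Finset.univ.filter fun x : Mo => x * inJ v * x⁻¹ = inJ v).card * size (cl (inJ v)) = 648 := by
  decide +kernel

theorem size_J : ∀ v w : V, v ≠ 1 → w ≠ 1 → size (cl (inJ v)) = size (cl (inJ w)) →
    cl (inJ v) = cl (inJ w) := by decide +kernel

theorem v_cube : ∀ v : V, v ^ 3 = 1 := by decide +kernel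

variable {G : Type u} [Group G] [Finite G]

theorem pCore_mem {H : Type u} [Group H] [Finite H] (θ : H ≃* Mo) (x : H) :
    x ∈ Cfsg.pCore 3 H ↔ (θ x).right = 1 := by
  haveI := Fact.mk Nat.prime_three
  constructor
  · intro hx
    have key : ∀ y ∈ Cfsg.pCore 3 H, (θ y).right * (θ y).right * (θ y).right = 1 := by
      intro y hy
      refine rot_cube _ ?_
      obtain ⟨k, hk⟩ := Cfsg.Agent.FiniteGroup.pCore_isPGroup 3 (G := H) ⟨y, hy⟩
      have hk' : y ^ 3 ^ k = 1 := by simpa using congrArg Subtype.val hk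
      have h1 : orderOf y ∣ 3 ^ k := orderOf_dvd_of_pow_eq_one hk'
      have h2 : orderOf y ∣ 648 := by
        have := orderOf_dvd_natCard y
        rwa [Nat.card_congr θ.toEquiv, Nat.card_eq_fintype_card, card_mo] at this
      obtain ⟨i, -, hi⟩ := (Nat.dvd_prime_pow Nat.prime_three).1 h1
      have h81 : orderOf y ∣ 81 := by
        have hi4 : i ≤ 4 := by
          by_contra h
          have h243 : (243 : ℕ) ∣ 648 :=
            ((show (243 : ℕ) = 3 ^ 5 by norm_num) ▸ Nat.pow_dvd_pow 3 (by omega : 5 ≤ i)).trans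
              (hi ▸ h2)
          norm_num at h243
        rw [hi, show (81 : ℕ) = 3 ^ 4 by norm_num]
        exact Nat.pow_dvd_pow 3 hi4
      have h3 := congrArg (fun m : Mo => SemidirectProduct.rightHom m)
        (congrArg θ (orderOf_dvd_iff_pow_eq_one.1 h81))
      simpa [map_pow] using h3
    by_contra hne
    obtain ⟨g, hg⟩ := rot_core _ (key x hx) hne
    refine hg ?_
    haveI : (Cfsg.pCore 3 H).Normal := Cfsg.Agent.FiniteGroup.pCore_normal 3
    have hy := key _ (mul_mem hx (Subgroup.Normal.conj_mem inferInstance x hx (θ.symm (inQ g))))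
    simpa [map_mul, map_inv] using hy
  · intro hx
    have hP : (inJ.range.comap θ.toMonoidHom).Normal ∧
        IsPGroup 3 (inJ.range.comap θ.toMonoidHom) := by
      refine ⟨?_, fun y => ⟨1, ?_⟩⟩
      · have : inJ.range.Normal := by
          rw [inJ, SemidirectProduct.range_inl_eq_ker_rightHom]; infer_instance
        exact this.comap _
      · apply Subtype.ext
        apply θ.injective
        obtain ⟨v, hv⟩ := y.2
        show θ ((y : H) ^ 3 ^ 1) = θ 1
        rw [map_pow, show θ (y : H) = inJ v from hv.symm, ← map_pow,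
          show (3 : ℕ) ^ 1 = 3 from rfl, v_cube v, map_one, map_one]
    have hle : inJ.range.comap θ.toMonoidHom ≤ Cfsg.pCore 3 H := le_sSup hP
    exact hle (show θ x ∈ inJ.range from
      ⟨(θ x).left, SemidirectProduct.ext rfl hx.symm⟩)

theorem eq_top (H : Subgroup G) (hH : Nonempty (↥H ≃* ↥(Subgroup.closure (perm9 '' gens))))
    (J : Subgroup G) (hJ : J = (Cfsg.pCore 3 ↥H).map H.subtype)
    (hC : ∀ j ∈ J, j ≠ 1 → Subgroup.centralizer ({j} : Set G) ≤ H)
    (hsc : Cfsg.IsStronglyClosed J H) : H = ⊤ := by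
  classical
  by_contra hne
  obtain ⟨e⟩ := hH
  let θ : ↥H ≃* Mo := e.trans ((MulEquiv.subgroupCongr (MonoidHom.map_closure perm9 gens).symm).trans
    (((Subgroup.closure gens).equivMapOfInjective perm9 perm9_injective).symm.trans
      ((MulEquiv.subgroupCongr closure_gens).trans Subgroup.topEquiv)))
  set ι : Mo →* G := H.subtype.comp θ.symm.toMonoidHom with hι
  have hinj : Function.Injective ι := H.subtype_injective.comp θ.symm.injective
  have hmem : ∀ m, ι m ∈ H := fun m => (θ.symm m).2
  have hrange : ∀ g ∈ H, g ∈ ι.range := fun g hg => ⟨θ ⟨g, hg⟩, by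
    show ((θ.symm (θ ⟨g, hg⟩) : H) : G) = g
    rw [θ.symm_apply_apply]⟩
  have hJm : ∀ m : Mo, ι m ∈ J ↔ m.right = 1 := by
    intro m
    rw [hJ]
    constructor
    · rintro ⟨y, hy, hye⟩
      have h := (pCore_mem θ y).1 hy
      rwa [show y = θ.symm m from Subtype.ext hye, θ.apply_symm_apply] at h
    · intro hm
      exact ⟨θ.symm m, (pCore_mem θ _).2 (by rw [θ.apply_symm_apply]; exact hm), rfl⟩
  have sc : ∀ (v : V) (h : Mo), IsConj (ι (inJ v)) (ι h) → h.right = 1 := by
    intro v h hc
    obtain ⟨g, hg⟩ := isConj_iff.1 hc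
    have := hsc.2 _ ((hJm (inJ v)).2 (SemidirectProduct.right_inl v)) g (hg ▸ hmem h)
    rw [hg] at this
    exact (hJm h).1 this
  have hcent : ∀ v : V, v ≠ 1 → Subgroup.centralizer ({ι (inJ v)} : Set G) ≤ H := fun v hv =>
    hC _ ((hJm _).2 (SemidirectProduct.right_inl v)) fun h =>
      hv (SemidirectProduct.inl_injective ((hinj (h.trans (map_one ι).symm)).trans
        (map_one inJ).symm))
  have hcard : ∀ v : V, v ≠ 1 →
      Nat.card (Subgroup.centralizer ({ι (inJ v)} : Set G)) * size (cl (inJ v)) = 648 := by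
    intro v hv
    rw [← cent_card_J v hv]
    congr 1
    have e : Subgroup.centralizer ({ι (inJ v)} : Set G) =
        (Subgroup.centralizer ({inJ v} : Set Mo)).map ι := by
      ext g
      constructor
      · intro hg
        obtain ⟨m, rfl⟩ := hrange g (hcent v hv hg)
        refine ⟨m, Subgroup.mem_centralizer_singleton_iff.2 (hinj ?_), rfl⟩
        rw [map_mul, map_mul]
        exact Subgroup.mem_centralizer_singleton_iff.1 hg
      · rintro ⟨m, hm, rfl⟩
        refine Subgroup.mem_centralizer_singleton_iff.2 ?_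
        rw [← map_mul, ← map_mul, Subgroup.mem_centralizer_singleton_iff.1 hm]
    rw [e, Subgroup.card_map_of_injective hinj, Nat.card_eq_fintype_card, ← Fintype.card_coe]
    refine Fintype.card_congr (Equiv.subtypeEquivRight fun x => ?_)
    rw [Subgroup.mem_centralizer_singleton_iff]
    simp [mul_inv_eq_iff_eq_mul]
  have tiJ : ∀ v w : V, v ≠ 1 → ∀ g : G, g * ι (inJ v) * g⁻¹ = ι (inJ w) → g ∈ ι.range := by
    intro v w hv g hg
    have hw : w ≠ 1 := by
      rintro rfl
      rw [map_one, map_one, mul_inv_eq_one, mul_eq_left] at hg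
      exact hv (SemidirectProduct.inl_injective
        ((hinj (hg.trans (map_one ι).symm)).trans (map_one inJ).symm))
    have hc : Nat.card (Subgroup.centralizer ({ι (inJ v)} : Set G)) =
        Nat.card (Subgroup.centralizer ({ι (inJ w)} : Set G)) := by
      refine Nat.card_congr ((MulAut.conj g).toEquiv.subtypeEquiv fun x => ?_)
      rw [Subgroup.mem_centralizer_singleton_iff, Subgroup.mem_centralizer_singleton_iff, ← hg]
      simp only [MulEquiv.toEquiv_eq_coe, EquivLike.coe_coe, MulAut.conj_apply]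
      constructor <;> intro h
      · calc g * x * g⁻¹ * (g * ι (inJ v) * g⁻¹) = g * (x * ι (inJ v)) * g⁻¹ := by group
          _ = _ := by rw [h]; group
      · apply mul_left_cancel (a := g)
        apply mul_right_cancel (b := g⁻¹)
        calc g * (x * ι (inJ v)) * g⁻¹ = g * x * g⁻¹ * (g * ι (inJ v) * g⁻¹) := by group
          _ = _ := by rw [h]; group
    have hs : size (cl (inJ v)) = size (cl (inJ w)) := by
      have h1 := hcard v hv
      rw [hc, ← hcard w hw] at h1
      exact Nat.eq_of_mul_eq_mul_left Nat.card_pos h1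
    obtain ⟨k, hk⟩ := isConj_iff.1 (isConj_of_cl (size_J v w hv hw hs))
    have h2 : (ι k)⁻¹ * g ∈ Subgroup.centralizer ({ι (inJ v)} : Set G) := by
      refine Subgroup.mem_centralizer_singleton_iff.2 ?_
      rw [mul_assoc, mul_inv_eq_iff_eq_mul.1 hg, ← hk, map_mul, map_mul, map_inv]
      group
    have := ι.range.mul_mem ⟨k, rfl⟩ (hrange _ (hcent v hv h2))
    rwa [mul_inv_cancel_left] at this
  have E : Emb ι Dset := by
    refine ⟨hinj, fun h h' hh _ g hg => ?_⟩
    obtain ⟨hr, hn⟩ := power_in h hh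
    set n := powIn (cl h)
    have hp : g * ι (h ^ n) * g⁻¹ = ι (h' ^ n) := by
      rw [map_pow, map_pow, ← hg, conj_pow]
    have hl : inJ (h ^ n).left = h ^ n := SemidirectProduct.ext rfl hr.symm
    have hr' : (h' ^ n).right = 1 := sc (h ^ n).left _ (by rw [hl]; exact isConj_iff.2 ⟨g, hp⟩)
    refine tiJ (h ^ n).left (h' ^ n).left (fun h1 => hn ?_) g ?_
    · rw [← hl, h1, map_one]
    · rw [hl, show inJ (h' ^ n).left = h' ^ n from SemidirectProduct.ext rfl hr'.symm]
      exact hp
  obtain ⟨g, hg⟩ : ∃ g, g ∉ H := by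
    by_contra h
    push Not at h
    exact hne (top_unique fun x _ => h x)
  let f : Option V → G ⧸ H := fun o =>
    o.elim ((1 : G) : G ⧸ H) fun v => ((ι (inJ v) * g : G) : G ⧸ H)
  have hf : Function.Injective f := by
    have hbase : ∀ v, ((1 : G) : G ⧸ H) ≠ ((ι (inJ v) * g : G) : G ⧸ H) := fun v h => by
      rw [QuotientGroup.eq, inv_one, one_mul] at h
      exact hg ((H.mul_mem_cancel_left (hmem _)).1 h)
    rintro (_ | u) (_ | v) h
    · rfl
    · exact absurd h (hbase v)
    · exact absurd h.symm (hbase u)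
    · by_contra hne'
      have hd : u⁻¹ * v ≠ 1 := fun h1 => hne' (by rw [inv_mul_eq_one.1 h1])
      have h' : (ι (inJ u) * g)⁻¹ * (ι (inJ v) * g) ∈ H := QuotientGroup.eq.1 h
      rw [show (ι (inJ u) * g)⁻¹ * (ι (inJ v) * g) = g⁻¹ * ι (inJ (u⁻¹ * v)) * g⁻¹⁻¹ by
        rw [map_mul, map_mul, map_inv, map_inv]; group] at h'
      obtain ⟨m, hm⟩ := hrange _ h'
      have hm1 : m.right = 1 := sc _ m (isConj_iff.2 ⟨g⁻¹, hm.symm⟩)
      have hgR := tiJ _ m.left hd g⁻¹ (by
        rw [← hm, show inJ m.left = m from SemidirectProduct.ext rfl hm1.symm])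
      obtain ⟨m', hm'⟩ := hgR
      exact hg (inv_mem_iff.1 (hm' ▸ hmem m'))
  have h28 : 28 ≤ H.index := by
    have h := Nat.card_le_card_of_injective f hf
    rw [Finite.card_option] at h
    simpa [Subgroup.index_eq_card] using h
  have hH648 : Nat.card H = 648 := by
    rw [Nat.card_congr θ.toEquiv, Nat.card_eq_fintype_card, card_mo]
  refine false_of_emb E sc ?_ (hH648 ▸ H.card_subgroup_dvd_card)
  rw [← H.card_mul_index, hH648]
  exact le_trans (by norm_num) (Nat.mul_le_mul_left 648 h28)

end Cfsg.Agent.ThreeTI.Mono
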