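import Cfsg.Agent.Lib.ThreeTI.Mono.Sums
import Cfsg.Agent.Lib.ThreeTI.Triangles
import Cfsg.Agent.Lib.Char.LocalTI
import Cfsg.Agent.Lib.Char.Degree

/-!
The nine coordinates of an irreducible character on the classes of a TI set for `3³ : S₄`:
their integrality, their orthogonality, and the local structure constants.
-/

set_option autoImplicit false
set_option maxRecDepth 40000
set_option linter.unusedSectionVars false
set_option linter.style.haveILetI false

namespace Cfsg.Agent.ThreeTI.Mono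

open Cfsg Cfsg.Agent.Char Cfsg.Agent.LocalTI
open Cfsg.Agent.ThreeTI.Cube (V)
open scoped ComplexConjugate

universe u

/-- The elements having a nontrivial power in the normal subgroup. -/
def Dset (m : Mo) : Prop := 5 ≤ cl m

/-- A twelfth root of unity. -/
noncomputable def zeta : ℂ := ⟨Real.sqrt 3 / 2, 1 / 2⟩

theorem sqrt_three : (Real.sqrt 3 : ℂ) * Real.sqrt 3 = 3 := by
  norm_cast
  exact Real.mul_self_sqrt (by norm_num)

theorem zeta_eq : zeta = ((Real.sqrt 3 : ℂ) + Complex.I) / 2 := by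
  apply Complex.ext <;> simp [zeta]

theorem zeta_two : zeta ^ 2 = (1 + (Real.sqrt 3 : ℂ) * Complex.I) / 2 := by
  rw [zeta_eq]; linear_combination (1 / 4 : ℂ) * sqrt_three + (1 / 4 : ℂ) * Complex.I_mul_I

theorem zeta_three : zeta ^ 3 = Complex.I := by
  rw [pow_succ, zeta_two, zeta_eq]
  linear_combination (Complex.I / 4) * sqrt_three + ((Real.sqrt 3 : ℂ) / 4) * Complex.I_mul_I

theorem zeta_twelve : zeta ^ 12 = 1 := by
  rw [show 12 = 3 * 4 from rfl, pow_mul, zeta_three, Complex.I_pow_four]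

/-- A value in the real quadratic ring. -/
noncomputable def rad (a b : ℤ) : ℂ := (a : ℂ) + (b : ℂ) * (Real.sqrt 3 : ℂ)

theorem conj_zeta : conj zeta = ((Real.sqrt 3 : ℂ) - Complex.I) / 2 := by
  rw [zeta_eq, map_div₀, map_add, Complex.conj_ofReal, Complex.conj_I, map_ofNat]
  ring

theorem zeta_pow_add_conj : ∀ k : Fin 12,
    zeta ^ k.val + conj (zeta ^ k.val) = rad (cR k) (cI k) := by
  have h2 : zeta ^ 2 + conj (zeta ^ 2) = 1 := by
    rw [zeta_two, map_div₀, map_add, map_one, map_mul, Complex.conj_ofReal, Complex.conj_I,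
      map_ofNat]
    ring
  have key : ∀ a r : ℕ, zeta ^ (3 * a + r) = Complex.I ^ a * zeta ^ r := fun a r => by
    rw [pow_add, pow_mul, zeta_three]
  have p : ∀ a : ℕ, ∀ r : ℕ, zeta ^ (3 * a + r) + conj (zeta ^ (3 * a + r)) =
      Complex.I ^ a * zeta ^ r + (-Complex.I) ^ a * conj (zeta ^ r) := fun a r => by
    rw [key, map_mul, map_pow conj Complex.I, Complex.conj_I]
  have hI := Complex.I_mul_I
  have hs := sqrt_three
  intro k
  have hk := p (k.val / 3) (k.val % 3)
  rw [Nat.div_add_mod] at hk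
  rw [hk]
  fin_cases k <;>
    simp [rad, cR, cI, zeta_two, conj_zeta, zeta_eq, pow_succ, Complex.conj_ofReal, map_ofNat] <;> grind

/-- The subgroup of a linear character. -/
def sub (b : Fin 15) : Subgroup Mo where
  carrier := {m | bMem b m.right.i = true}
  one_mem' := (mem_one b).1
  mul_mem' {x y} hx hy := (mem_mul b x.right y.right hx hy).1
  inv_mem' {x} hx := mem_inv b x.right hx

theorem kk_mul (b : Fin 15) {x y : Mo} (hx : x ∈ sub b) (hy : y ∈ sub b) :
    kk b (x * y) = kk b x + kk b y := by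
  have h4 : ∀ s t : ZMod 3, (4 : ZMod 12) * ((s + t).val : ZMod 12) =
      4 * (s.val : ZMod 12) + 4 * (t.val : ZMod 12) := by decide
  have hc : ∀ (u v : V) (j : Fin 3), coord (u * v) j = coord u j + coord v j := by decide +kernel
  have hf := form_inv b x.right hx y.left
  simp only [kk, SemidirectProduct.mul_left, SemidirectProduct.mul_right,
    show (phi x.right) y.left = actFn x.right y.left from rfl, hc,
    (mem_mul b x.right y.right hx hy).2]
  rw [show ∀ c0 c1 c2 a0 a1 a2 d0 d1 d2 : ZMod 3, c0 * (a0 + d0) + c1 * (a1 + d1) + c2 * (a2 + d2) =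
    (c0 * a0 + c1 * a1 + c2 * a2) + (c0 * d0 + c1 * d1 + c2 * d2) from fun _ _ _ _ _ _ _ _ _ => by ring,
    hf, h4]
  ring

theorem kk_one (b : Fin 15) : kk b 1 = 0 := by revert b; decide +kernel

/-- The linear character. -/
noncomputable def theta (b : Fin 15) : sub b →* ℂˣ :=
  MonoidHom.toHomUnits
    { toFun := fun m => AddChar.zmodChar 12 zeta_twelve (kk b m)
      map_one' := by simp [kk_one]
      map_mul' := fun x y => by
        rw [← AddChar.map_add_eq_mul, Subgroup.coe_mul, kk_mul b x.2 y.2] }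

theorem theta_add_conj (b : Fin 15) (m : sub b) :
    (theta b m : ℂ) + conj (theta b m : ℂ) = rad (cR (kk b m)) (cI (kk b m)) :=
  zeta_pow_add_conj (kk b m)

theorem card_sub (b : Fin 15) : bIdx b * Nat.card (sub b) = 648 := by
  classical
  have e : Nat.card (sub b) = 27 * (Finset.univ.filter fun q : Rot => bMem b q.i = true).card := by
    rw [Nat.card_congr (show sub b ≃ V × {q : Rot // bMem b q.i = true} from
      ⟨fun m => (m.1.left, ⟨m.1.right, m.2⟩), fun p => ⟨⟨p.1, p.2.1⟩, p.2.2⟩,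
        fun _ => rfl, fun _ => rfl⟩), Nat.card_prod, Nat.card_eq_fintype_card (α := V),
      Nat.card_eq_fintype_card, Fintype.card_subtype]
    rfl
  rw [e, mul_left_comm, card_mem b]
  all_goals norm_num

variable {G : Type u} [Group G] [Finite G] {ι : Mo →* G}

/-- The value of a character at a representative. -/
noncomputable def value (ι : Mo →* G) (χ : IrrCharacter G) (i : Fin 14) : ℂ :=
  (χ : G → ℂ) (ι (rep i))

variable [Fintype G]

theorem value_cl (χ : IrrCharacter G) (m : Mo) : (χ : G → ℂ) (ι m) = value ι χ (cl m) := by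
  rw [value]
  conv_lhs => rw [← conj_wit m]
  rw [map_mul, map_mul, map_inv, IsCharacter.isClassFunction (IsIrrCharacter.isCharacter χ.2)]

theorem conj_value_i (χ : IrrCharacter G) (i : Fin 14) : conj (value ι χ i) = value ι χ i :=
  conj_value ι χ (isConj_of_cl (real_class _).symm)

theorem exists_mult (χ : IrrCharacter G) (b : Fin 15) : ∃ n : ℤ,
    (1296 * n : ℂ) = ∑ i, rad (sRat b i) (sIrr b i) * value ι χ i := by
  classical
  obtain ⟨n, hn⟩ := IsGeneralizedCharacter.exists_classInner_int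
    (IsGeneralizedCharacter.of_isCharacter
      (IsCharacter.comp (IsCharacter.comp (IsIrrCharacter.isCharacter χ.2) ι) (sub b).subtype))
    (IsGeneralizedCharacter.of_isCharacter
      (IsIrrCharacter.isCharacter (isIrrCharacter_linear (theta b))))
  refine ⟨n, ?_⟩
  rw [Cfsg.classInner] at hn
  have hne : (Nat.card (sub b) : ℂ) ≠ 0 := Nat.cast_ne_zero.2 Nat.card_pos.ne'
  rw [inv_mul_eq_iff_eq_mul₀ hne] at hn
  have hn' := congrArg conj hn
  simp only [map_sum, map_mul, Complex.conj_conj, map_natCast, map_intCast, Function.comp_apply]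
    at hn'
  have hreal : ∀ m : sub b, conj ((χ : G → ℂ) (ι m)) = (χ : G → ℂ) (ι m) := fun m => by
    rw [value_cl, conj_value_i]
  have h2 : (bIdx b : ℂ) * ∑ m : sub b, rad (cR (kk b m)) (cI (kk b m)) * value ι χ (cl m) =
      1296 * (n : ℂ) := by
    have hs : ∑ m : sub b, rad (cR (kk b m)) (cI (kk b m)) * value ι χ (cl m) =
        2 * ((Nat.card (sub b) : ℂ) * n) := by
      rw [two_mul]
      nth_rewrite 1 [← hn]
      rw [← hn', ← Finset.sum_add_distrib]
      refine Finset.sum_congr rfl fun m _ => ?_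
      simp only [Subgroup.coe_subtype, hreal, ← theta_add_conj, ← value_cl]
      ring
    rw [hs, show (1296 : ℂ) = 2 * ((bIdx b * Nat.card (sub b) : ℕ) : ℂ) by
      rw [card_sub]; norm_num]
    push_cast; ring
  rw [← h2]
  have key : ∀ i, rad (sRat b i) (sIrr b i) = ∑ q ∈ Finset.univ.filter
      (fun q : Rot => bMem b q.i = true), ∑ v : V,
        if cl ⟨v, q⟩ = i then (bIdx b : ℂ) * rad (cR (kk b ⟨v, q⟩)) (cI (kk b ⟨v, q⟩)) else 0 := by
    intro i
    rw [rad, ← classSum_rat, ← classSum_irr]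
    simp only [classSum, Int.cast_sum, apply_ite (Int.cast : ℤ → ℂ), Int.cast_mul, Int.cast_natCast,
      Int.cast_zero, Finset.sum_mul, ← Finset.sum_add_distrib]
    refine Finset.sum_congr rfl fun q _ => Finset.sum_congr rfl fun v _ => ?_
    split_ifs <;> simp [rad] <;> ring
  simp only [key, Finset.sum_mul]
  rw [Finset.sum_comm, Finset.mul_sum]
  let eL : sub b ≃ {q : Rot // bMem b q.i = true} × V :=
    ⟨fun m => (⟨m.1.right, m.2⟩, m.1.left), fun p => ⟨⟨p.2, p.1.1⟩, p.1.2⟩,
      fun _ => rfl, fun _ => rfl⟩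
  refine (eL.symm.sum_comp _).symm.trans ?_
  rw [Fintype.sum_prod_type, Finset.sum_subtype (p := fun q : Rot => bMem b q.i = true)
    (Finset.univ.filter _) (fun q => by simp)]
  refine Finset.sum_congr rfl fun q _ => ?_
  rw [Finset.sum_comm]
  refine Finset.sum_congr rfl fun v _ => ?_
  simp only [ite_mul, zero_mul, Finset.sum_ite_eq, Finset.mem_univ, if_true]
  show (bIdx b : ℂ) * (rad _ _ * value ι χ (cl (⟨v, q.1⟩ : Mo))) = _
  rw [show ((eL.symm (q, v) : sub b) : Mo) = ⟨v, q.1⟩ from rfl]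
  ring

/-- The multiplicity of a linear character. -/
noncomputable def mult (ι : Mo →* G) (χ : IrrCharacter G) (b : Fin 15) : ℤ :=
  Classical.choose (exists_mult (ι := ι) χ b)

theorem mult_spec (χ : IrrCharacter G) (b : Fin 15) :
    (1296 * mult ι χ b : ℂ) = ∑ i, rad (sRat b i) (sIrr b i) * value ι χ i :=
  Classical.choose_spec (exists_mult (ι := ι) χ b)

/-- The nine coordinates. -/
noncomputable def coord9 (ι : Mo →* G) (χ : IrrCharacter G) (k : Fin 9) : ℤ :=
  ∑ b, fBase k b * mult ι χ b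

/-- The weight of a class in a coordinate. -/
noncomputable def wgt (k : Fin 9) (i : Fin 14) : ℂ := rad (wRat k i) (wIrr k i)

theorem coord_spec (χ : IrrCharacter G) (k : Fin 9) :
    (1296 * coord9 ι χ k : ℂ) = ∑ i, wgt k i * value ι χ i := by
  simp only [coord9, Int.cast_sum, Int.cast_mul, Finset.mul_sum, mul_left_comm (1296 : ℂ),
    mult_spec]
  rw [Finset.sum_comm]
  refine Finset.sum_congr rfl fun i _ => ?_
  simp only [wgt, rad, ← (weights k i).1, ← (weights k i).2, Int.cast_sum, Int.cast_mul,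
    Finset.sum_mul, ← Finset.sum_add_distrib]
  exact Finset.sum_congr rfl fun b _ => by ring

theorem w_supp : ∀ k i, i < 5 → wRat k i = 0 ∧ wIrr k i = 0 := by decide +kernel

theorem wgt_zero {k : Fin 9} {i : Fin 14} (h : i < 5) : wgt k i = 0 := by
  simp [wgt, rad, w_supp k i h]

theorem conj_wgt (k : Fin 9) (i : Fin 14) : conj (wgt k i) = wgt k i := by
  simp [wgt, rad, Complex.conj_ofReal]

theorem rat_coord (χ : IrrCharacter G) (k : Fin 9) :
    (1296 * coord9 ι χ k : ℂ) = ∑ i, wgt k i * conj (value ι χ i) := by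
  rw [coord_spec]
  exact Finset.sum_congr rfl fun i _ => by rw [conj_value_i]

theorem cent_card : ∀ i : Fin 14, 5 ≤ i →
    (Finset.univ.filter fun x : Mo => x * rep i * x⁻¹ = rep i).card * size i = 648 := by
  decide +kernel

theorem card_centralizer (E : Emb ι Dset) {i : Fin 14} (hi : 5 ≤ i) :
    Nat.card (Subgroup.centralizer ({ι (rep i)} : Set G)) * size i = 648 := by
  classical
  have hd : Dset (rep i) := by rw [Dset, cl_rep]; exact hi
  rw [← cent_card i hi]
  congr 1
  rw [Nat.card_eq_fintype_card]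
  convert E.fibre hd hd using 1
  · rw [← Fintype.card_coe]
    refine Fintype.card_congr (Equiv.subtypeEquivRight fun g => ?_)
    rw [Subgroup.mem_centralizer_singleton_iff]
    simp [mul_inv_eq_iff_eq_mul]
  · congr 1
    ext x
    simp

theorem col_value (E : Emb ι Dset) {i j : Fin 14} (hi : 5 ≤ i) (hj : 5 ≤ j) :
    ∑ χ : IrrCharacter G, value ι χ i * conj (value ι χ j) =
      if i = j then (648 : ℂ) / (size i : ℂ) else 0 := by
  classical
  split_ifs with h
  · subst h
    simp only [value]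
    rw [column_orth_of_isConj (IsConj.refl _),
      eq_div_iff (by exact_mod_cast (by decide : ∀ i, size i ≠ 0) i)]
    exact_mod_cast card_centralizer E hi
  · refine column_orth_of_not_isConj fun hc => h ?_
    have hdi : Dset (rep i) := by rw [Dset, cl_rep]; exact hi
    have hdj : Dset (rep j) := by rw [Dset, cl_rep]; exact hj
    have := cl_of_isConj (E.isConj hdi hdj hc)
    rwa [cl_rep, cl_rep] at this

/-- The products of two weights, over the class. -/
def wProd (k l : Fin 9) : ℤ × ℤ :=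
  (∑ i, (648 / size i : ℕ) * (wRat k i * wRat l i + 3 * (wIrr k i * wIrr l i)),
    ∑ i, (648 / size i : ℕ) * (wRat k i * wIrr l i + wIrr k i * wRat l i))

theorem wProd_eq : ∀ k l, wProd k l = (1679616 * gram k l, 0) := by decide +kernel

theorem coord_gram (E : Emb ι Dset) (k l : Fin 9) :
    ∑ χ : IrrCharacter G, coord9 ι χ k * coord9 ι χ l = gram k l := by
  classical
  have e : (1679616 : ℂ) * ((∑ χ : IrrCharacter G, coord9 ι χ k * coord9 ι χ l : ℤ) : ℂ) =
      (1679616 : ℂ) * (gram k l : ℂ) := by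
    calc (1679616 : ℂ) * ((∑ χ : IrrCharacter G, coord9 ι χ k * coord9 ι χ l : ℤ) : ℂ)
        = ∑ χ : IrrCharacter G, (∑ i, wgt k i * value ι χ i) *
            (∑ j, wgt l j * conj (value ι χ j)) := by
          push_cast
          rw [Finset.mul_sum]
          refine Finset.sum_congr rfl fun χ _ => ?_
          rw [← coord_spec, ← rat_coord]
          ring
      _ = ∑ i, ∑ j, wgt k i * wgt l j *
            ∑ χ : IrrCharacter G, value ι χ i * conj (value ι χ j) := by
          simp only [Finset.sum_mul_sum]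
          simp only [Finset.mul_sum]
          rw [Finset.sum_comm]
          refine Finset.sum_congr rfl fun i _ => ?_
          rw [Finset.sum_comm]
          exact Finset.sum_congr rfl fun j _ => Finset.sum_congr rfl fun χ _ => by ring
      _ = ∑ i, wgt k i * wgt l i * ((648 / size i : ℕ) : ℂ) := by
          refine Finset.sum_congr rfl fun i _ => ?_
          by_cases hi : i < 5
          · simp [wgt_zero hi]
          rw [Finset.sum_eq_single i]
          · rw [col_value E (not_lt.1 hi) (not_lt.1 hi), if_pos rfl,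
              Nat.cast_div ((by decide : ∀ i, size i ∣ 648) i)
                (by exact_mod_cast (by decide : ∀ i, size i ≠ 0) i)]
            norm_num
          · intro j _ hne
            by_cases hj : j < 5
            · simp [wgt_zero hj]
            · rw [col_value E (not_lt.1 hi) (not_lt.1 hj), if_neg (Ne.symm hne), mul_zero]
          · exact fun h => absurd (Finset.mem_univ i) h
      _ = _ := by
          have h := wProd_eq k l
          simp only [wProd, Prod.mk.injEq] at h
          have h1 := congrArg (Int.cast : ℤ → ℂ) h.1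
          have h2 := congrArg (Int.cast : ℤ → ℂ) h.2
          simp only [Int.cast_sum, Int.cast_mul, Int.cast_add, Int.cast_natCast, Int.cast_zero,
            Int.cast_ofNat] at h1 h2
          have hr : ∀ i, wgt k i * wgt l i * ((648 / size i : ℕ) : ℂ) =
              ((648 / size i : ℕ) : ℂ) * ((wRat k i : ℂ) * wRat l i + 3 * ((wIrr k i : ℂ) * wIrr l i))
              + (Real.sqrt 3 : ℂ) * (((648 / size i : ℕ) : ℂ) *
                ((wRat k i : ℂ) * wIrr l i + (wIrr k i : ℂ) * wRat l i)) := fun i => by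
            simp only [wgt, rad]
            linear_combination (((648 / size i : ℕ) : ℂ) * (wIrr k i : ℂ) * wIrr l i) * sqrt_three
          rw [Finset.sum_congr rfl fun i _ => hr i, Finset.sum_add_distrib, ← Finset.mul_sum, h1, h2]
          simp
  have := mul_left_cancel₀ (by norm_num) e
  exact_mod_cast this

theorem not_one_rep : ∀ i : Fin 14, 5 ≤ i → rep i ≠ 1 := by decide +kernel

theorem coord_degree (E : Emb ι Dset) (k : Fin 9) :
    ∑ χ : IrrCharacter G, coord9 ι χ k * (Cfsg.charDegree (χ : G → ℂ) : ℤ) = 0 := by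
  have e : (1296 : ℂ) * ((∑ χ : IrrCharacter G,
      coord9 ι χ k * (Cfsg.charDegree (χ : G → ℂ) : ℤ) : ℤ) : ℂ) = 0 := by
    push_cast
    simp only [Finset.mul_sum, ← mul_assoc, coord_spec, Finset.sum_mul]
    rw [Finset.sum_comm]
    refine Finset.sum_eq_zero fun i _ => ?_
    by_cases hi : i < 5
    · simp [wgt_zero hi]
    rw [show ∑ χ : IrrCharacter G, wgt k i * value ι χ i * (Cfsg.charDegree (χ : G → ℂ) : ℂ) =
      wgt k i * ∑ χ : IrrCharacter G, (χ : G → ℂ) (ι (rep i)) * conj ((χ : G → ℂ) 1) by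
        rw [Finset.mul_sum]
        refine Finset.sum_congr rfl fun χ _ => ?_
        rw [CharX.irr_deg χ, map_natCast, value]
        ring, column_orth_of_not_isConj, mul_zero]
    intro hc
    rw [isConj_one_left] at hc
    exact not_one_rep i (not_lt.1 hi) (E.inj (hc.trans (map_one ι).symm))
  exact_mod_cast (mul_eq_zero.1 e).resolve_left (by norm_num)

theorem w_total : ∀ k, ∑ i, wRat k i = 1296 * princCol k ∧ ∑ i, wIrr k i = 0 := by decide +kernel

theorem coord_princ {χ : IrrCharacter G} (hχ : ∀ g, (χ : G → ℂ) g = 1) (k : Fin 9) :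
    coord9 ι χ k = princCol k := by
  have h := coord_spec (ι := ι) χ k
  simp only [value, hχ, mul_one, wgt, rad, Finset.sum_add_distrib, ← Finset.sum_mul,
    ← Int.cast_sum, w_total] at h
  push_cast at h
  have h' : (coord9 ι χ k : ℂ) = (princCol k : ℂ) := by
    linear_combination h / 1296
  exact_mod_cast h'

/-- The three rows of coefficients giving the values on the normal subgroup. -/
def valRow : Fin 3 → Fin 9 → ℤ :=
  ![![-3, 4, -8, 3, -6, -4, 3, 0, 0], ![0, -2, -2, 0, 0, 2, 0, -3, -3],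
    ![3, 1, 4, -3, -3, -1, -3, 3, 3]]

/-- The three classes in the normal subgroup. -/
def jc : Fin 3 → Fin 14 := ![5, 6, 7]

theorem valRow_w : ∀ a i, ∑ k, valRow a k * wRat k i = (if i = jc a then 1296 else 0) ∧
    ∑ k, valRow a k * wIrr k i = 0 := by decide +kernel

/-- The value on a class of the normal subgroup. -/
noncomputable def jval (ι : Mo →* G) (χ : IrrCharacter G) (a : Fin 3) : ℤ :=
  ∑ k, valRow a k * coord9 ι χ k

theorem jval_eq (χ : IrrCharacter G) (a : Fin 3) :
    value ι χ (jc a) = (jval ι χ a : ℂ) := by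
  have e : (1296 : ℂ) * (jval ι χ a : ℂ) = 1296 * value ι χ (jc a) := by
    simp only [jval, Int.cast_sum, Int.cast_mul, Finset.mul_sum, mul_left_comm (1296 : ℂ),
      coord_spec]
    rw [Finset.sum_comm]
    have hw : ∀ i, ∑ k, (valRow a k : ℂ) * (wgt k i * value ι χ i) =
        (if i = jc a then (1296 : ℂ) else 0) * value ι χ i := fun i => by
      have h1 := congrArg (Int.cast : ℤ → ℂ) (valRow_w a i).1
      have h2 := congrArg (Int.cast : ℤ → ℂ) (valRow_w a i).2
      push_cast [apply_ite (Int.cast : ℤ → ℂ)] at h1 h2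
      simp only [wgt, rad, add_mul, mul_add, Finset.sum_add_distrib, ← mul_assoc, ← Finset.sum_mul,
        h1, h2]
      ring
    simp only [hw, ite_mul, zero_mul, Finset.sum_ite_eq', Finset.mem_univ, if_true]
  exact (mul_left_cancel₀ (by norm_num) e).symm

theorem base_J : ∀ i, sRat 14 i = (if i = 0 then 48 else 0) +
    48 * (if i = 5 then 6 else if i = 6 then 12 else if i = 7 then 8 else 0) ∧
    sIrr 14 i = 0 := by decide +kernel

/-- The congruence of a degree. -/
theorem degree_cong (χ : IrrCharacter G) : (27 : ℤ) ∣ (Cfsg.charDegree (χ : G → ℂ) : ℤ) +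
    6 * jval ι χ 0 + 12 * jval ι χ 1 + 8 * jval ι χ 2 := by
  refine ⟨mult ι χ 14, ?_⟩
  have h := mult_spec (ι := ι) χ 14
  have h0 : value ι χ 0 = (Cfsg.charDegree (χ : G → ℂ) : ℂ) := by
    rw [value, show rep 0 = 1 by decide +kernel, map_one, CharX.irr_deg χ]
  have v : value ι χ 5 = (jval ι χ 0 : ℂ) ∧ value ι χ 6 = (jval ι χ 1 : ℂ) ∧
      value ι χ 7 = (jval ι χ 2 : ℂ) := ⟨jval_eq χ 0, jval_eq χ 1, jval_eq χ 2⟩
  simp [rad, base_J, Fin.sum_univ_succ, h0, v] at h
  have : (((Cfsg.charDegree (χ : G → ℂ) : ℤ) + 6 * jval ι χ 0 + 12 * jval ι χ 1 +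
      8 * jval ι χ 2 : ℤ) : ℂ) = ((27 * mult ι χ 14 : ℤ) : ℂ) := by
    push_cast; grind
  exact_mod_cast this

theorem cube_comm : ∀ i : Fin 14, (i = 5 ∨ i = 6) → ∀ m : Mo, m * m * m = 1 →
    m * rep i = rep i * m → m.right = 1 := by decide +kernel

theorem J_dset : ∀ m : Mo, m.right = 1 → m ≠ 1 → 5 ≤ cl m ∧ cl m ≤ 7 := by decide +kernel

theorem J_cube : ∀ m : Mo, m.right = 1 → m * m * m = 1 := by decide +kernel

/-- The structure constants are computed inside the normal subgroup. -/
theorem count (E : Emb ι Dset) (sc : ∀ (v : V) (h : Mo), IsConj (ι (inJ v)) (ι h) → h.right = 1)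
    {c d x : Fin 14} (hc : 5 ≤ c ∧ c ≤ 7) (hd : 5 ≤ d ∧ d ≤ 7) (hx : x = 5 ∨ x = 6) (hne : d ≠ x) :
    Nat.card {a : G // IsConj (ι (rep c)) a ∧ IsConj (ι (rep d)) (a⁻¹ * ι (rep x))} =
      (Finset.univ.filter fun v : V => cl (inJ v) = c ∧ cl ((inJ v)⁻¹ * rep x) = d).card := by
  classical
  rw [← Fintype.card_coe, ← Nat.card_eq_fintype_card]
  symm
  refine Nat.card_eq_of_bijective (fun v => ⟨ι (inJ v.1), ?_, ?_⟩) ⟨fun v v' e => ?_, fun a => ?_⟩
  · exact ι.map_isConj (isConj_of_cl ((cl_rep c).trans (Finset.mem_filter.1 v.2).2.1.symm))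
  · rw [← map_inv, ← map_mul]
    exact ι.map_isConj (isConj_of_cl ((cl_rep d).trans (Finset.mem_filter.1 v.2).2.2.symm))
  · exact Subtype.ext (SemidirectProduct.inl_injective (E.inj (congrArg Subtype.val e)))
  obtain ⟨a, hac, had⟩ := a
  have hx5 : 5 ≤ x ∧ x ≤ 7 := by rcases hx with rfl | rfl <;> decide
  have hinj : ∀ m : Mo, m.right = 1 → inJ m.left = m := fun m hm =>
    SemidirectProduct.ext rfl hm.symm
  have hcube : ∀ {e : Fin 14}, 5 ≤ e ∧ e ≤ 7 → ∀ {b : G}, IsConj (ι (rep e)) b → b ^ 3 = 1 := by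
    intro e he b hb
    obtain ⟨g, rfl⟩ := isConj_iff.1 hb
    rw [conj_pow, ← map_pow, pow_three', J_cube _ (rep_J e he.1 he.2).1, map_one, mul_one,
      mul_inv_cancel]
  have hb3 := hcube hd had
  have hxi : (ι (rep x))⁻¹ ^ 3 = 1 := by rw [inv_pow, hcube hx5 (IsConj.refl _), inv_one]
  have hprod : (a⁻¹ * ι (rep x) * (ι (rep x))⁻¹) ^ 3 = 1 := by
    rw [mul_inv_cancel_right, inv_pow, hcube hc hac, inv_one]
  have hdd : Dset (rep d) := by rw [Dset, cl_rep]; exact hd.1
  have hdx : Dset (rep x)⁻¹ := by rw [Dset, real_class, cl_rep]; exact hx5.1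
  have hdc : Dset (rep c) := by rw [Dset, cl_rep]; exact hc.1
  rcases isConj_or_commute_three hb3 hxi hprod with h | ⟨q, q1, q3, qb, qx⟩
  · exfalso
    refine hne ?_
    rw [← map_inv] at h
    have := cl_of_isConj (E.isConj hdd hdx (had.trans h))
    rwa [cl_rep, real_class, cl_rep] at this
  · rw [← map_inv] at qx
    obtain ⟨r, rfl⟩ := E.mem_range_of_commute hdx qx.eq
    have hr1 : r.right = 1 := by
      refine cube_comm x hx r (E.inj (by rw [← pow_three', map_pow, q3, map_one])) (E.inj ?_)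
      rw [map_mul, map_mul]
      simpa using qx.inv_right.eq
    have hr : Dset r := (J_dset r hr1 fun h => q1 (by rw [h, map_one])).1
    obtain ⟨s, hs⟩ := E.mem_range_of_commute hr qb.eq.symm
    have hs1 : s.right = 1 := sc (rep d).left s (by rw [hinj _ (rep_J d hd.1 hd.2).1, hs]; exact had)
    have ha : a = ι (rep x * s⁻¹) := by rw [map_mul, map_inv, hs]; group
    subst ha
    have h1 : (rep x * s⁻¹).right = 1 := by
      rw [SemidirectProduct.mul_right, SemidirectProduct.inv_right, hs1, (rep_J x hx5.1 hx5.2).1,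
        inv_one, one_mul]
    have hne1 : ∀ {e : Fin 14}, 5 ≤ e → ∀ {m : Mo}, IsConj (ι (rep e)) (ι m) → m ≠ 1 := by
      intro e he m hm h
      rw [h, map_one, isConj_one_left] at hm
      exact not_one_rep e he (E.inj (hm.trans (map_one ι).symm))
    have hs2 : (rep x * s⁻¹)⁻¹ * rep x = s := by group
    rw [← map_inv, ← map_mul, hs2] at had
    refine ⟨⟨(rep x * s⁻¹).left, Finset.mem_filter.2 ⟨Finset.mem_univ _, ?_, ?_⟩⟩,
      Subtype.ext (congrArg ι (hinj _ h1))⟩
    · rw [hinj _ h1]
      have := cl_of_isConj (E.isConj hdc (J_dset _ h1 (hne1 hc.1 hac)).1 hac)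
      rw [cl_rep] at this
      exact this.symm
    · rw [hinj _ h1, hs2]
      have := cl_of_isConj (E.isConj hdd (J_dset _ hs1 (hne1 hd.1 had)).1 had)
      rw [cl_rep] at this
      exact this.symm

/-- The seven mixed monomials of degree three. -/
def mon : Fin 7 → Fin 3 × Fin 3 × Fin 3 :=
  ![(0, 0, 1), (0, 2, 0), (1, 0, 1), (2, 1, 0), (2, 2, 0), (1, 2, 1), (2, 2, 1)]

/-- Their totals, as computed in the model. -/
def monTot : Fin 7 → ℤ := ![23328, 0, 11664, 17496, 26244, 17496, 13122]

theorem mon_model : ∀ m : Fin 7, (((Finset.univ.filter fun v : V =>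
    cl (inJ v) = jc (mon m).1 ∧ cl ((inJ v)⁻¹ * rep (jc (mon m).2.2)) = jc (mon m).2.1).card *
      (648 / size (jc (mon m).1)) * (648 / size (jc (mon m).2.1)) : ℕ) : ℤ) = monTot m := by
  decide +kernel

theorem cubic (E : Emb ι Dset) (sc : ∀ (v : V) (h : Mo), IsConj (ι (inJ v)) (ι h) → h.right = 1)
    (m : Fin 7) : (Nat.card G : ℚ) * ∑ χ : IrrCharacter G,
      ((jval ι χ (mon m).1 * jval ι χ (mon m).2.1 * jval ι χ (mon m).2.2 : ℤ) : ℚ) /
        (Cfsg.charDegree (χ : G → ℂ) : ℚ) = monTot m := by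
  classical
  have hcond : ∀ m : Fin 7, (5 ≤ jc (mon m).1 ∧ jc (mon m).1 ≤ 7) ∧
      (5 ≤ jc (mon m).2.1 ∧ jc (mon m).2.1 ≤ 7) ∧
      (jc (mon m).2.2 = 5 ∨ jc (mon m).2.2 = 6) ∧ jc (mon m).2.1 ≠ jc (mon m).2.2 := by decide
  obtain ⟨hc, hd, hx, hne⟩ := hcond m
  have hcen : ∀ i : Fin 14, 5 ≤ i →
      Nat.card (Subgroup.centralizer ({ι (rep i)} : Set G)) = 648 / size i := fun i hi => by
    rw [← card_centralizer E hi,
      Nat.mul_div_cancel _ (Nat.pos_of_ne_zero ((by decide : ∀ i, size i ≠ 0) i))]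
  have h := ClassCount.pair_count (ι (rep (jc (mon m).1))) (ι (rep (jc (mon m).2.1)))
    (ι (rep (jc (mon m).2.2)))
  rw [count E sc hc hd hx hne, hcen _ hc.1, hcen _ hd.1] at h
  apply Rat.cast_injective (α := ℂ)
  rw [← mon_model m]
  generalize 648 / size (jc (mon m).1) = A, 648 / size (jc (mon m).2.1) = B at h ⊢
  push_cast
  rw [h]
  congr 1
  refine Finset.sum_congr rfl fun χ _ => ?_
  rw [CharX.irr_deg χ, show (χ : G → ℂ) (ι (rep (jc (mon m).1))) = _ from jval_eq χ _,
    show (χ : G → ℂ) (ι (rep (jc (mon m).2.1))) = _ from jval_eq χ _,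
    show (χ : G → ℂ) (ι (rep (jc (mon m).2.2))) = _ from jval_eq χ _, map_intCast]

end Cfsg.Agent.ThreeTI.Mono
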