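import Cfsg.Agent.Lib.ThreeTI.Mono.Search
import Cfsg.Agent.Lib.ThreeTI.Mono.Tables

/-!
The possible configurations of the nine virtual characters, stage by stage.
-/

set_option autoImplicit false
set_option maxRecDepth 40000

namespace Cfsg.Agent.ThreeTI.Mono

/-- The configurations of the first vectors. -/
def configs : ℕ → List (List (List ℤ))
  | 0 => [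
    [[]]]
  | 1 => [
    [[0], [1], [1]]]
  | 2 => [
    [[0, 0], [0, 1], [0, 1], [1, 0], [1, 0]],
    [[0, 0], [1, -1], [1, 1]]]
  | 3 => [
    [[0, 0, 0], [0, 0, 1], [0, 1, 0], [0, 1, 1], [1, 0, -1], [1, 0, 0]],
    [[0, 0, 0], [0, 0, 1], [0, 0, 1], [1, -1, -1], [1, 1, 0]]]
  | 4 => [
    [[0, 0, 0, -1], [0, 0, 0, 1], [0, 0, 1, 0], [0, 1, 0, 0], [0, 1, 1, 0], [1, 0, -1, -1],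
     [1, 0, 0, 1]],
    [[0, 0, 0, -1], [0, 0, 0, 1], [0, 0, 1, 0], [0, 1, 0, -1], [0, 1, 1, 1], [1, 0, -1, 0],
     [1, 0, 0, 0]],
    [[0, 0, 0, -1], [0, 0, 0, 1], [0, 0, 0, 1], [0, 0, 1, 1], [0, 1, 0, 0], [0, 1, 1, 0],
     [1, 0, -1, 0], [1, 0, 0, 0]],
    [[0, 0, 0, -1], [0, 0, 0, 1], [0, 0, 0, 1], [0, 0, 1, 0], [0, 0, 1, 1], [1, -1, -1, 0],
     [1, 1, 0, 0]]]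
  | 5 => [
    [[0, 0, 0, -1, 0], [0, 0, 0, 1, 0], [0, 0, 1, 0, 0], [0, 1, 0, 0, 1], [0, 1, 1, 0, -1],
     [1, 0, -1, -1, 0], [1, 0, 0, 1, 1]],
    [[0, 0, 0, -1, 0], [0, 0, 0, 0, 1], [0, 0, 0, 1, 0], [0, 0, 1, 0, -1], [0, 1, 0, 0, 0],
     [0, 1, 1, 0, 0], [1, 0, -1, -1, 0], [1, 0, 0, 1, 1]],
    [[0, 0, 0, -1, 0], [0, 0, 0, 0, 1], [0, 0, 0, 1, 1], [0, 0, 1, 0, 0], [0, 1, 0, -1, 0],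
     [0, 1, 1, 1, 0], [1, 0, -1, 0, 1], [1, 0, 0, 0, 0]],
    [[0, 0, 0, -1, 0], [0, 0, 0, 1, 1], [0, 0, 1, 0, -1], [0, 1, 0, -1, 0], [0, 1, 1, 1, 0],
     [1, 0, -1, 0, 0], [1, 0, 0, 0, 1]],
    [[0, 0, 0, -1, 0], [0, 0, 0, 0, 1], [0, 0, 0, 1, 0], [0, 0, 0, 1, 1], [0, 0, 1, 1, 0],
     [0, 1, 0, 0, 0], [0, 1, 1, 0, 0], [1, 0, -1, 0, 1], [1, 0, 0, 0, 0]]]
  | 6 => [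
    [[0, 0, 0, -1, 0, -1], [0, 0, 0, 1, 0, 1], [0, 0, 1, 0, 0, 1], [0, 1, 0, 0, 1, 0],
     [0, 1, 1, 0, -1, 0], [1, 0, -1, -1, 0, 0], [1, 0, 0, 1, 1, -1]],
    [[0, 0, 0, -1, 0, -1], [0, 0, 0, 0, 1, -1], [0, 0, 0, 1, 0, -1], [0, 0, 1, 0, -1, 0],
     [0, 1, 0, 0, 0, 0], [0, 1, 1, 0, 0, 0], [1, 0, -1, -1, 0, -1], [1, 0, 0, 1, 1, 0]],
    [[0, 0, 0, -1, 0, -1], [0, 0, 0, 0, 0, 1], [0, 0, 0, 0, 0, 1], [0, 0, 0, 0, 1, 0],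
     [0, 0, 0, 1, 1, 0], [0, 0, 1, 0, 0, 0], [0, 1, 0, -1, 0, 0], [0, 1, 1, 1, 0, 0],
     [1, 0, -1, 0, 1, -1], [1, 0, 0, 0, 0, 0]],
    [[0, 0, 0, -1, 0, -1], [0, 0, 0, 0, 1, -1], [0, 0, 0, 1, 1, 0], [0, 0, 1, 0, 0, 1],
     [0, 1, 0, -1, 0, 0], [0, 1, 1, 1, 0, 0], [1, 0, -1, 0, 1, 0], [1, 0, 0, 0, 0, -1]],
    [[0, 0, 0, -1, 0, -1], [0, 0, 0, 0, 0, 1], [0, 0, 0, 0, 0, 1], [0, 0, 0, 0, 1, 0],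
     [0, 0, 0, 1, 0, 0], [0, 0, 0, 1, 1, 0], [0, 0, 1, 1, 0, 0], [0, 1, 0, 0, 0, 0],
     [0, 1, 1, 0, 0, 0], [1, 0, -1, 0, 1, -1], [1, 0, 0, 0, 0, 0]],
    [[0, 0, 0, -1, 0, -1], [0, 0, 0, 0, 1, 0], [0, 0, 0, 1, 0, 0], [0, 0, 0, 1, 1, -1],
     [0, 0, 1, 1, 0, 1], [0, 1, 0, 0, 0, 0], [0, 1, 1, 0, 0, 0], [1, 0, -1, 0, 1, 0],
     [1, 0, 0, 0, 0, -1]]]
  | 7 => [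
    [[0, 0, 0, -1, 0, -1, 0], [0, 0, 0, 0, 0, 1, 0], [0, 0, 0, 0, 0, 1, 0],
     [0, 0, 0, 0, 1, 0, 1], [0, 0, 0, 1, 1, 0, 1], [0, 0, 1, 0, 0, 0, 0], [0, 1, 0, -1, 0, 0, 0],
     [0, 1, 1, 1, 0, 0, 0], [1, 0, -1, 0, 1, -1, -1], [1, 0, 0, 0, 0, 0, 1]],
    [[0, 0, 0, -1, 0, -1, 0], [0, 0, 0, 0, 0, 0, 1], [0, 0, 0, 0, 0, 1, 0],
     [0, 0, 0, 0, 0, 1, 1], [0, 0, 0, 0, 1, 0, 0], [0, 0, 0, 1, 1, 0, 1], [0, 0, 1, 0, 0, 0, 1],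
     [0, 1, 0, -1, 0, 0, 0], [0, 1, 1, 1, 0, 0, 0], [1, 0, -1, 0, 1, -1, 0],
     [1, 0, 0, 0, 0, 0, 0]],
    [[0, 0, 0, -1, 0, -1, 0], [0, 0, 0, 0, 0, 0, 1], [0, 0, 0, 0, 0, 0, 1],
     [0, 0, 0, 0, 1, -1, 0], [0, 0, 0, 1, 1, 0, 1], [0, 0, 1, 0, 0, 1, 1],
     [0, 1, 0, -1, 0, 0, 0], [0, 1, 1, 1, 0, 0, 0], [1, 0, -1, 0, 1, 0, 0],
     [1, 0, 0, 0, 0, -1, 0]],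
    [[0, 0, 0, -1, 0, -1, 0], [0, 0, 0, 0, 0, 1, 0], [0, 0, 0, 0, 0, 1, 0],
     [0, 0, 0, 0, 1, 0, 1], [0, 0, 0, 1, 0, 0, 0], [0, 0, 0, 1, 1, 0, 1], [0, 0, 1, 1, 0, 0, 0],
     [0, 1, 0, 0, 0, 0, 0], [0, 1, 1, 0, 0, 0, 0], [1, 0, -1, 0, 1, -1, -1],
     [1, 0, 0, 0, 0, 0, 1]],
    [[0, 0, 0, -1, 0, -1, 0], [0, 0, 0, 0, 0, 1, 0], [0, 0, 0, 0, 0, 1, 1],
     [0, 0, 0, 0, 1, 0, 0], [0, 0, 0, 1, 0, 0, 0], [0, 0, 0, 1, 1, 0, 1], [0, 0, 1, 1, 0, 0, 0],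
     [0, 1, 0, 0, 0, 0, -1], [0, 1, 1, 0, 0, 0, 1], [1, 0, -1, 0, 1, -1, 0],
     [1, 0, 0, 0, 0, 0, 0]],
    [[0, 0, 0, -1, 0, -1, 0], [0, 0, 0, 0, 0, 1, 0], [0, 0, 0, 0, 0, 1, 1],
     [0, 0, 0, 0, 1, 0, 0], [0, 0, 0, 1, 0, 0, -1], [0, 0, 0, 1, 1, 0, 1], [0, 0, 1, 1, 0, 0, 1],
     [0, 1, 0, 0, 0, 0, 0], [0, 1, 1, 0, 0, 0, 0], [1, 0, -1, 0, 1, -1, 0], [1, 0, 0, 0, 0, 0, 0]],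
    [[0, 0, 0, -1, 0, -1, 0], [0, 0, 0, 0, 0, 0, 1], [0, 0, 0, 0, 0, 1, 0],
     [0, 0, 0, 0, 0, 1, 1], [0, 0, 0, 0, 1, 0, 1], [0, 0, 0, 1, 0, 0, 0], [0, 0, 0, 1, 1, 0, 0],
     [0, 0, 1, 1, 0, 0, 1], [0, 1, 0, 0, 0, 0, 0], [0, 1, 1, 0, 0, 0, 0],
     [1, 0, -1, 0, 1, -1, 0], [1, 0, 0, 0, 0, 0, 0]],
    [[0, 0, 0, -1, 0, -1, 0], [0, 0, 0, 0, 0, 0, 1], [0, 0, 0, 0, 0, 0, 1],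
     [0, 0, 0, 0, 1, 0, 1], [0, 0, 0, 1, 0, 0, 0], [0, 0, 0, 1, 1, -1, 0], [0, 0, 1, 1, 0, 1, 1],
     [0, 1, 0, 0, 0, 0, 0], [0, 1, 1, 0, 0, 0, 0], [1, 0, -1, 0, 1, 0, 0], [1, 0, 0, 0, 0, -1, 0]]]
  | 8 => [
    [[0, 0, 0, -1, 0, -1, 0, 0], [0, 0, 0, 0, 0, 1, 0, 0], [0, 0, 0, 0, 0, 1, 0, 1],
     [0, 0, 0, 0, 1, 0, 1, 1], [0, 0, 0, 1, 1, 0, 1, 0], [0, 0, 1, 0, 0, 0, 0, -1],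
     [0, 1, 0, -1, 0, 0, 0, -1], [0, 1, 1, 1, 0, 0, 0, 0], [1, 0, -1, 0, 1, -1, -1, 0],
     [1, 0, 0, 0, 0, 0, 1, 0]],
    [[0, 0, 0, -1, 0, -1, 0, 0], [0, 0, 0, 0, 0, 0, 1, 0], [0, 0, 0, 0, 0, 0, 1, 1],
     [0, 0, 0, 0, 1, -1, 0, 0], [0, 0, 0, 1, 1, 0, 1, 0], [0, 0, 1, 0, 0, 1, 1, 0],
     [0, 1, 0, -1, 0, 0, 0, -1], [0, 1, 1, 1, 0, 0, 0, 0], [1, 0, -1, 0, 1, 0, 0, 1],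
     [1, 0, 0, 0, 0, -1, 0, -1]],
    [[0, 0, 0, -1, 0, -1, 0, 0], [0, 0, 0, 0, 0, 0, 0, 1], [0, 0, 0, 0, 0, 1, 0, 0],
     [0, 0, 0, 0, 0, 1, 0, 1], [0, 0, 0, 0, 1, 0, 1, 0], [0, 0, 0, 1, 0, 0, 0, 0],
     [0, 0, 0, 1, 1, 0, 1, 1], [0, 0, 1, 1, 0, 0, 0, 0], [0, 1, 0, 0, 0, 0, 0, 0],
     [0, 1, 1, 0, 0, 0, 0, -1], [1, 0, -1, 0, 1, -1, -1, 0], [1, 0, 0, 0, 0, 0, 1, 0]],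
    [[0, 0, 0, -1, 0, -1, 0, 0], [0, 0, 0, 0, 0, 1, 0, 0], [0, 0, 0, 0, 0, 1, 0, 1],
     [0, 0, 0, 0, 1, 0, 1, 1], [0, 0, 0, 1, 0, 0, 0, 1], [0, 0, 0, 1, 1, 0, 1, 0],
     [0, 0, 1, 1, 0, 0, 0, 0], [0, 1, 0, 0, 0, 0, 0, 0], [0, 1, 1, 0, 0, 0, 0, -1],
     [1, 0, -1, 0, 1, -1, -1, 0], [1, 0, 0, 0, 0, 0, 1, 0]],
    [[0, 0, 0, -1, 0, -1, 0, 0], [0, 0, 0, 0, 0, 0, 0, 1], [0, 0, 0, 0, 0, 1, 0, 0],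
     [0, 0, 0, 0, 0, 1, 1, 1], [0, 0, 0, 0, 1, 0, 0, 0], [0, 0, 0, 1, 0, 0, 0, 0],
     [0, 0, 0, 1, 1, 0, 1, 1], [0, 0, 1, 1, 0, 0, 0, 0], [0, 1, 0, 0, 0, 0, -1, 0],
     [0, 1, 1, 0, 0, 0, 1, -1], [1, 0, -1, 0, 1, -1, 0, 0], [1, 0, 0, 0, 0, 0, 0, 0]],
    [[0, 0, 0, -1, 0, -1, 0, 0], [0, 0, 0, 0, 0, 0, 0, 1], [0, 0, 0, 0, 0, 1, 0, 1],
     [0, 0, 0, 0, 0, 1, 1, 0], [0, 0, 0, 0, 1, 0, 0, 0], [0, 0, 0, 1, 0, 0, -1, 0],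
     [0, 0, 0, 1, 1, 0, 1, 1], [0, 0, 1, 1, 0, 0, 1, 0], [0, 1, 0, 0, 0, 0, 0, 0],
     [0, 1, 1, 0, 0, 0, 0, -1], [1, 0, -1, 0, 1, -1, 0, 0], [1, 0, 0, 0, 0, 0, 0, 0]],
    [[0, 0, 0, -1, 0, -1, 0, 0], [0, 0, 0, 0, 0, 0, 0, 1], [0, 0, 0, 0, 0, 0, 1, 0],
     [0, 0, 0, 0, 0, 1, 0, 0], [0, 0, 0, 0, 0, 1, 1, 1], [0, 0, 0, 0, 1, 0, 1, 0],
     [0, 0, 0, 1, 0, 0, 0, 0], [0, 0, 0, 1, 1, 0, 0, 1], [0, 0, 1, 1, 0, 0, 1, 0],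
     [0, 1, 0, 0, 0, 0, 0, 0], [0, 1, 1, 0, 0, 0, 0, -1], [1, 0, -1, 0, 1, -1, 0, 0],
     [1, 0, 0, 0, 0, 0, 0, 0]],
    [[0, 0, 0, -1, 0, -1, 0, 0], [0, 0, 0, 0, 0, 0, 1, 0], [0, 0, 0, 0, 0, 1, 0, 1],
     [0, 0, 0, 0, 0, 1, 1, 0], [0, 0, 0, 0, 1, 0, 1, 1], [0, 0, 0, 1, 0, 0, 0, 1],
     [0, 0, 0, 1, 1, 0, 0, 0], [0, 0, 1, 1, 0, 0, 1, 0], [0, 1, 0, 0, 0, 0, 0, 0],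
     [0, 1, 1, 0, 0, 0, 0, -1], [1, 0, -1, 0, 1, -1, 0, 0], [1, 0, 0, 0, 0, 0, 0, 0]],
    [[0, 0, 0, -1, 0, -1, 0, 0], [0, 0, 0, 0, 0, 0, 1, 1], [0, 0, 0, 0, 0, 1, 0, 1],
     [0, 0, 0, 0, 0, 1, 1, 0], [0, 0, 0, 0, 1, 0, 1, 0], [0, 0, 0, 1, 0, 0, 0, 0],
     [0, 0, 0, 1, 1, 0, 0, 1], [0, 0, 1, 1, 0, 0, 1, 0], [0, 1, 0, 0, 0, 0, 0, 0],
     [0, 1, 1, 0, 0, 0, 0, -1], [1, 0, -1, 0, 1, -1, 0, 0], [1, 0, 0, 0, 0, 0, 0, 0]]]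
  | 9 => [
    [[0, 0, 0, -1, 0, -1, 0, 0, -1], [0, 0, 0, 0, 0, 0, 0, 1, 0], [0, 0, 0, 0, 0, 1, 0, 0, 0],
     [0, 0, 0, 0, 0, 1, 0, 1, 0], [0, 0, 0, 0, 1, 0, 1, 0, 0], [0, 0, 0, 1, 0, 0, 0, 0, 0],
     [0, 0, 0, 1, 1, 0, 1, 1, 1], [0, 0, 1, 1, 0, 0, 0, 0, -1], [0, 1, 0, 0, 0, 0, 0, 0, -1],
     [0, 1, 1, 0, 0, 0, 0, -1, 0], [1, 0, -1, 0, 1, -1, -1, 0, 0], [1, 0, 0, 0, 0, 0, 1, 0, 0]],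
    [[0, 0, 0, -1, 0, -1, 0, 0, -1], [0, 0, 0, 0, 0, 0, 0, 0, 1], [0, 0, 0, 0, 0, 0, 0, 1, 0],
     [0, 0, 0, 0, 0, 1, 0, 0, 0], [0, 0, 0, 0, 0, 1, 0, 1, 0], [0, 0, 0, 0, 1, 0, 1, 0, 1],
     [0, 0, 0, 1, 0, 0, 0, 0, 0], [0, 0, 0, 1, 1, 0, 1, 1, 0], [0, 0, 1, 1, 0, 0, 0, 0, 0],
     [0, 1, 0, 0, 0, 0, 0, 0, 0], [0, 1, 1, 0, 0, 0, 0, -1, -1], [1, 0, -1, 0, 1, -1, -1, 0, 0],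
     [1, 0, 0, 0, 0, 0, 1, 0, 0]],
    [[0, 0, 0, -1, 0, -1, 0, 0, -1], [0, 0, 0, 0, 0, 0, 0, 0, 1], [0, 0, 0, 0, 0, 0, 0, 1, 0],
     [0, 0, 0, 0, 0, 0, 1, 0, 0], [0, 0, 0, 0, 0, 1, 0, 0, 0], [0, 0, 0, 0, 0, 1, 1, 1, 0],
     [0, 0, 0, 0, 1, 0, 1, 0, 1], [0, 0, 0, 1, 0, 0, 0, 0, 0], [0, 0, 0, 1, 1, 0, 0, 1, 0],
     [0, 0, 1, 1, 0, 0, 1, 0, 0], [0, 1, 0, 0, 0, 0, 0, 0, 0], [0, 1, 1, 0, 0, 0, 0, -1, -1],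
     [1, 0, -1, 0, 1, -1, 0, 0, 0], [1, 0, 0, 0, 0, 0, 0, 0, 0]],
    [[0, 0, 0, -1, 0, -1, 0, 0, -1], [0, 0, 0, 0, 0, 0, 0, 0, 1], [0, 0, 0, 0, 0, 0, 1, 1, 0],
     [0, 0, 0, 0, 0, 1, 0, 1, 0], [0, 0, 0, 0, 0, 1, 1, 0, 0], [0, 0, 0, 0, 1, 0, 1, 0, 1],
     [0, 0, 0, 1, 0, 0, 0, 0, 0], [0, 0, 0, 1, 1, 0, 0, 1, 0], [0, 0, 1, 1, 0, 0, 1, 0, 0],
     [0, 1, 0, 0, 0, 0, 0, 0, 0], [0, 1, 1, 0, 0, 0, 0, -1, -1], [1, 0, -1, 0, 1, -1, 0, 0, 0],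
     [1, 0, 0, 0, 0, 0, 0, 0, 0]]]
  | _ => []

/-- The inner products of a vector with the earlier ones. -/
def needOf (k : Fin 9) : List ℤ :=
  ((List.finRange 9).take k.val).map fun j => gram j k

theorem configs_step : ∀ k : Fin 9, ((configs k.val).all fun S =>
    (extend k.val S (princCol k) (needOf k) (gram k k).toNat).all fun T =>
      decide (T ∈ configs (k.val + 1))) = true := by decide +kernel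

end Cfsg.Agent.ThreeTI.Mono
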