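import Cfsg.Agent.Lib.ThreeTI.Mono.Configs

/-!
Each of the final configurations is arithmetically impossible for a group of order at least
18144.
-/

set_option autoImplicit false
set_option maxRecDepth 40000

namespace Cfsg.Agent.ThreeTI.Mono

/-- The arithmetic of the coherent configuration. -/
theorem coherent_arith {N b b' c g : ℤ} (hN : 18144 ≤ N) (h648 : 648 ∣ N)
    (hb : 27 ∣ b + 15) (hb' : 27 ∣ b' + 15) (hc : 27 ∣ c + 19)
    (hB : N * (b + b') = 108 * (b * b')) (hC : N * (c + 2 * g) = 243 * (g * c))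
    (hrel : b + b' = g + 2 * c) (hsq : b * b + b' * b' ≤ N) (hc2 : 2 * (c * c) ≤ N) : False := by
  obtain ⟨s, hs⟩ : ∃ s, s = b + b' := ⟨_, rfl⟩
  have h1 : 2 * (b * b') ≤ N := by nlinarith [mul_self_nonneg (b - b')]
  have h2 : -N ≤ 2 * (b * b') := by nlinarith [mul_self_nonneg (b + b')]
  have hs1 : s ≤ 54 := by
    by_contra h
    push Not at h
    nlinarith
  have hs2 : -54 ≤ s := by
    by_contra h
    push Not at h
    nlinarith
  obtain rfl : g = s - 2 * c := by linarith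
  have hC' : N * (2 * s - 3 * c) = 243 * ((s - 2 * c) * c) := by rw [← hC]; ring
  have hc1 : c ≤ 170 := by
    by_contra h
    push Not at h
    have h3 : N * (3 * c) ≤ 108 * N + 243 * (54 * c) + 243 * N := by
      nlinarith [mul_le_mul_of_nonneg_left hs1 (show (0 : ℤ) ≤ N by linarith),
        mul_le_mul_of_nonneg_left hs2 (show (0 : ℤ) ≤ c by linarith)]
    nlinarith
  have hc0 : -170 ≤ c := by
    by_contra h
    push Not at h
    have h3 : N * (-(3 * c)) ≤ 108 * N + 243 * (54 * -c) + 243 * N := by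
      nlinarith [mul_le_mul_of_nonneg_left hs2 (show (0 : ℤ) ≤ N by linarith),
        mul_le_mul_of_nonneg_left hs1 (show (0 : ℤ) ≤ -c by linarith)]
    nlinarith
  obtain ⟨i, hi⟩ : ∃ i, c = 27 * i + 8 := ⟨(c + 19) / 27 - 1, by omega⟩
  obtain ⟨j, hj⟩ : ∃ j, s = 27 * j + 24 := ⟨(s + 3) / 27 - 1, by omega⟩
  obtain ⟨q, rfl⟩ := h648
  have : -6 ≤ i ∧ i ≤ 6 ∧ -2 ≤ j ∧ j ≤ 1 := by omega
  obtain ⟨h5, h6, h7, h8⟩ := this
  subst hi hj
  interval_cases i <;> interval_cases j <;> omega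

/-- The coefficients giving the values on the three classes. -/
def vrow : Fin 3 → List ℤ :=
  ![[-3, 4, -8, 3, -6, -4, 3, 0, 0], [0, -2, -2, 0, 0, 2, 0, -3, -3],
    [3, 1, 4, -3, -3, -1, -3, 3, 3]]

/-- The value on a class, from a row of coordinates. -/
def rowVal (a : Fin 3) (r : List ℤ) : ℤ := ((vrow a).zip r).map (fun p => p.1 * p.2) |>.sum

/-- A linear form in the seven cubic monomials. -/
def cubForm (l : Fin 7 → ℤ) (r : List ℤ) : ℤ :=
  let a := rowVal 0 r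
  let b := rowVal 1 r
  let c := rowVal 2 r
  l 0 * (a * a * b) + l 1 * (a * c * a) + l 2 * (b * a * b) + l 3 * (c * b * a) +
    l 4 * (c * c * a) + l 5 * (b * c * b) + l 6 * (c * c * b)

/-- The form isolating the degree 12 characters. -/
def formB : Fin 7 → ℤ := ![-1, 0, -3, 0, 0, 4, 0]
/-- The form isolating the degree 8 characters. -/
def formC : Fin 7 → ℤ := ![-1, 0, 1, 0, 0, 0, 0]
/-- The form isolating a spurious direction. -/
def formX : Fin 7 → ℤ := ![-2, 1, -2, 6, 1, -2, -2]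

/-- The totals of the seven monomials. -/
def cubTot : Fin 7 → ℤ := ![23328, 0, 11664, 17496, 26244, 17496, 13122]

/-- The signed degrees attached to a configuration. -/
structure Degs (S : List (List ℤ)) (N : ℤ) (ds : List ℤ) : Prop where
  len : ds.length = S.length
  head : ds.head? = some 1
  ne : ∀ d ∈ ds, d ≠ 0
  vanish : ∀ j : Fin 9, ((S.zip ds).map fun p => p.1.getD j.val 0 * p.2).sum = 0
  sq : (ds.map fun d => d * d).sum ≤ N
  cong : ∀ p ∈ S.zip ds, 27 ∣ p.2 + 6 * rowVal 0 p.1 + 12 * rowVal 1 p.1 + 8 * rowVal 2 p.1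
  cubic : ∀ l : Fin 7 → ℤ, (N : ℚ) * ((S.zip ds).map fun p => (cubForm l p.1 : ℚ) / p.2).sum =
    (∑ m, l m * cubTot m : ℤ)

/-- Configuration 0. -/
def final0 : List (List ℤ) :=
  [ [0, 0, 0, -1, 0, -1, 0, 0, -1], [0, 0, 0, 0, 0, 0, 0, 1, 0], [0, 0, 0, 0, 0, 1, 0, 0, 0],
  [0, 0, 0, 0, 0, 1, 0, 1, 0], [0, 0, 0, 0, 1, 0, 1, 0, 0], [0, 0, 0, 1, 0, 0, 0, 0, 0],
  [0, 0, 0, 1, 1, 0, 1, 1, 1], [0, 0, 1, 1, 0, 0, 0, 0, -1], [0, 1, 0, 0, 0, 0, 0, 0, -1],
  [0, 1, 1, 0, 0, 0, 0, -1, 0], [1, 0, -1, 0, 1, -1, -1, 0, 0], [1, 0, 0, 0, 0, 0, 1, 0, 0]]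

theorem final0_false {N : ℤ} {ds : List ℤ} (hN : 18144 ≤ N) (h648 : 648 ∣ N)
    (h : Degs final0 N ds) : False := by
  obtain ⟨hl, hh, hne, hv, hsq, hcong, hcub⟩ := h
  match ds, hl with
  | [d0, d1, d2, d3, d4, d5, d6, d7, d8, d9, d10, d11], _ => ?_
  simp only [List.head?_cons, Option.some.injEq] at hh
  subst hh
  have v := Fin.forall_fin_succ.1 hv
  simp [final0, Fin.forall_fin_succ] at v
  have hz := hne d10 (by simp)
  apply hz
  linarith

/-- Configuration 1. -/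
def final1 : List (List ℤ) :=
  [ [0, 0, 0, -1, 0, -1, 0, 0, -1], [0, 0, 0, 0, 0, 0, 0, 0, 1], [0, 0, 0, 0, 0, 0, 0, 1, 0],
  [0, 0, 0, 0, 0, 1, 0, 0, 0], [0, 0, 0, 0, 0, 1, 0, 1, 0], [0, 0, 0, 0, 1, 0, 1, 0, 1],
  [0, 0, 0, 1, 0, 0, 0, 0, 0], [0, 0, 0, 1, 1, 0, 1, 1, 0], [0, 0, 1, 1, 0, 0, 0, 0, 0],
  [0, 1, 0, 0, 0, 0, 0, 0, 0], [0, 1, 1, 0, 0, 0, 0, -1, -1], [1, 0, -1, 0, 1, -1, -1, 0, 0],
  [1, 0, 0, 0, 0, 0, 1, 0, 0]]

theorem final1_false {N : ℤ} {ds : List ℤ} (hN : 18144 ≤ N) (h648 : 648 ∣ N)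
    (h : Degs final1 N ds) : False := by
  obtain ⟨hl, hh, hne, hv, hsq, hcong, hcub⟩ := h
  match ds, hl with
  | [d0, d1, d2, d3, d4, d5, d6, d7, d8, d9, d10, d11, d12], _ => ?_
  simp only [List.head?_cons, Option.some.injEq] at hh
  subst hh
  have v := Fin.forall_fin_succ.1 hv
  simp [final1, Fin.forall_fin_succ] at v
  have hz := hne d11 (by simp)
  apply hz
  linarith

/-- Configuration 2. -/
def final2 : List (List ℤ) :=
  [ [0, 0, 0, -1, 0, -1, 0, 0, -1], [0, 0, 0, 0, 0, 0, 0, 0, 1], [0, 0, 0, 0, 0, 0, 0, 1, 0],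
  [0, 0, 0, 0, 0, 0, 1, 0, 0], [0, 0, 0, 0, 0, 1, 0, 0, 0], [0, 0, 0, 0, 0, 1, 1, 1, 0],
  [0, 0, 0, 0, 1, 0, 1, 0, 1], [0, 0, 0, 1, 0, 0, 0, 0, 0], [0, 0, 0, 1, 1, 0, 0, 1, 0],
  [0, 0, 1, 1, 0, 0, 1, 0, 0], [0, 1, 0, 0, 0, 0, 0, 0, 0], [0, 1, 1, 0, 0, 0, 0, -1, -1],
  [1, 0, -1, 0, 1, -1, 0, 0, 0], [1, 0, 0, 0, 0, 0, 0, 0, 0]]

theorem final2_false {N : ℤ} {ds : List ℤ} (hN : 18144 ≤ N) (h648 : 648 ∣ N)
    (h : Degs final2 N ds) : False := by
  obtain ⟨hl, hh, hne, hv, hsq, hcong, hcub⟩ := h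
  match ds, hl with
  | [d0, d1, d2, d3, d4, d5, d6, d7, d8, d9, d10, d11, d12, d13], _ => ?_
  simp only [List.head?_cons, Option.some.injEq] at hh
  subst hh
  have v := Fin.forall_fin_succ.1 hv
  simp [final2, Fin.forall_fin_succ] at v
  have hB := hcub formB
  have hC := hcub formC
  simp [final2, cubForm, formB, formC, cubTot, rowVal, vrow, Fin.sum_univ_succ] at hB hC
  have hb := hcong ([0, 0, 0, 0, 0, 0, 0, 0, 1], d1) (by simp [final2])
  have hb' := hcong ([0, 0, 0, 0, 0, 0, 0, 1, 0], d2) (by simp [final2])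
  have hc := hcong ([0, 1, 1, 0, 0, 0, 0, -1, -1], d11) (by simp [final2])
  simp [rowVal, vrow] at hb hb' hc
  have e10 : d10 = -d11 := by linarith
  subst e10
  have n1 : (d1 : ℚ) ≠ 0 := Int.cast_ne_zero.2 (hne d1 (by simp))
  have n2 : (d2 : ℚ) ≠ 0 := Int.cast_ne_zero.2 (hne d2 (by simp))
  have n4 : (d4 : ℚ) ≠ 0 := Int.cast_ne_zero.2 (hne d4 (by simp))
  have n11 : (d11 : ℚ) ≠ 0 := Int.cast_ne_zero.2 (hne d11 (by simp))
  simp only [List.map_cons, List.map_nil, List.sum_cons, List.sum_nil] at hsq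
  refine coherent_arith (b := d1) (b' := d2) (c := d11) (g := d4) hN h648 ?_ ?_ ?_ ?_ ?_ ?_ ?_ ?_
  · omega
  · omega
  · omega
  · push_cast at hB
    field_simp at hB
    have : (N : ℚ) * (d1 + d2) = 108 * (d1 * d2) := by grind
    exact_mod_cast this
  · push_cast at hC
    field_simp at hC
    have : (N : ℚ) * (d11 + 2 * d4) = 243 * (d4 * d11) := by grind
    exact_mod_cast this
  · linarith
  · nlinarith [mul_self_nonneg d3, mul_self_nonneg d4, mul_self_nonneg d5, mul_self_nonneg d6,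
      mul_self_nonneg d7, mul_self_nonneg d8, mul_self_nonneg d9, mul_self_nonneg d11,
      mul_self_nonneg d12, mul_self_nonneg d13]
  · nlinarith [mul_self_nonneg d1, mul_self_nonneg d2, mul_self_nonneg d3, mul_self_nonneg d4,
      mul_self_nonneg d5, mul_self_nonneg d6, mul_self_nonneg d7, mul_self_nonneg d8,
      mul_self_nonneg d9, mul_self_nonneg d12, mul_self_nonneg d13]

/-- Configuration 3. -/
def final3 : List (List ℤ) :=
  [ [0, 0, 0, -1, 0, -1, 0, 0, -1], [0, 0, 0, 0, 0, 0, 0, 0, 1], [0, 0, 0, 0, 0, 0, 1, 1, 0],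
  [0, 0, 0, 0, 0, 1, 0, 1, 0], [0, 0, 0, 0, 0, 1, 1, 0, 0], [0, 0, 0, 0, 1, 0, 1, 0, 1],
  [0, 0, 0, 1, 0, 0, 0, 0, 0], [0, 0, 0, 1, 1, 0, 0, 1, 0], [0, 0, 1, 1, 0, 0, 1, 0, 0],
  [0, 1, 0, 0, 0, 0, 0, 0, 0], [0, 1, 1, 0, 0, 0, 0, -1, -1], [1, 0, -1, 0, 1, -1, 0, 0, 0],
  [1, 0, 0, 0, 0, 0, 0, 0, 0]]

theorem final3_false {N : ℤ} {ds : List ℤ} (hN : 18144 ≤ N) (h648 : 648 ∣ N)
    (h : Degs final3 N ds) : False := by
  obtain ⟨hl, hh, hne, hv, hsq, hcong, hcub⟩ := h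
  match ds, hl with
  | [d0, d1, d2, d3, d4, d5, d6, d7, d8, d9, d10, d11, d12], _ => ?_
  simp only [List.head?_cons, Option.some.injEq] at hh
  subst hh
  have v := Fin.forall_fin_succ.1 hv
  simp [final3, Fin.forall_fin_succ] at v
  have hx := hcub formX
  simp [final3, cubForm, formX, cubTot, rowVal, vrow, Fin.sum_univ_succ] at hx
  have hz : (d3 : ℚ) ≠ 0 := Int.cast_ne_zero.2 (hne d3 (by simp))
  rcases hx with h | h
  · omega
  · norm_num [hz] at h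

theorem configs_nine : configs 9 = [final0, final1, final2, final3] := by decide +kernel

theorem final_false {N : ℤ} {S : List (List ℤ)} {ds : List ℤ} (hS : S ∈ configs 9)
    (hN : 18144 ≤ N) (h648 : 648 ∣ N) (h : Degs S N ds) : False := by
  rw [configs_nine] at hS
  simp only [List.mem_cons, List.not_mem_nil, or_false] at hS
  rcases hS with rfl | rfl | rfl | rfl
  exacts [final0_false hN h648 h, final1_false hN h648 h, final2_false hN h648 h,
    final3_false hN h648 h]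

end Cfsg.Agent.ThreeTI.Mono
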