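import Cfsg.Agent.Lib.ThreeTI.Mono.Chars
import Cfsg.Agent.Lib.ThreeTI.Mono.Finals

/-!
No group of order at least 18144 contains `3³ : S₄` with the fusion and centralisers of a
strongly closed TI normal subgroup.
-/

set_option autoImplicit false
set_option maxRecDepth 40000
set_option linter.style.haveILetI false

namespace Cfsg.Agent.ThreeTI.Mono

open Cfsg Cfsg.Agent.Char Cfsg.Agent.LocalTI
open Cfsg.Agent.ThreeTI.Cube (V)

universe u

variable {G : Type u} [Group G] [Finite G] {ι : Mo →* G}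

theorem vrow_eq : ∀ a, vrow a = List.ofFn (valRow a) := by decide +kernel

theorem gram_toNat : ∀ k, ((gram k k).toNat : ℤ) = gram k k ∧ (gram k k).toNat ≤ 4 := by
  decide +kernel

theorem needOf_eq : ∀ k : Fin 9, ∀ j : Fin 9, j.val < k.val →
    (needOf k).getD j.val 0 = gram j k := by decide +kernel

theorem false_of_emb (E : Emb ι Dset)
    (sc : ∀ (v : V) (h : Mo), IsConj (ι (inJ v)) (ι h) → h.right = 1)
    (hN : 18144 ≤ Nat.card G) (h648 : 648 ∣ Nat.card G) : False := by
  classical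
  haveI := Fintype.ofFinite G
  let o : IrrCharacter G := ⟨fun _ => 1, isIrrCharacter_one⟩
  let F : ℕ → IrrCharacter G → ℤ := fun j χ => if h : j < 9 then coord9 ι χ ⟨j, h⟩ else 0
  have hF : ∀ (k : Fin 9) (χ : IrrCharacter G), F k χ = coord9 ι χ k := fun k χ => dif_pos k.isLt
  have stage : ∀ k, k ≤ 9 → ∃ S ∈ configs k, Cover F o k S := by
    intro k
    induction k with
    | zero => exact fun _ => ⟨[[]], by decide, cover_zero F o⟩
    | succ k ih =>
      intro hk
      obtain ⟨S, hS, hcov⟩ := ih (by omega)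
      have hk9 : k < 9 := by omega
      obtain ⟨T, hT, hcov'⟩ := cover_succ F o hcov (c0 := princCol ⟨k, hk9⟩)
        (need := needOf ⟨k, hk9⟩) (norm := (gram ⟨k, hk9⟩ ⟨k, hk9⟩).toNat) (gram_toNat _).2
        ((hF ⟨k, hk9⟩ o).trans (coord_princ (χ := o) (fun _ => rfl) _))
        (fun j hj => by
          rw [needOf_eq ⟨k, hk9⟩ ⟨j, by omega⟩ hj, ← coord_gram E]
          exact Finset.sum_congr rfl fun χ _ => by rw [← hF, ← hF])
        (by
          rw [(gram_toNat _).1, ← coord_gram E]
          exact Finset.sum_congr rfl fun χ _ => by rw [← hF])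
      refine ⟨T, ?_, hcov'⟩
      have h := configs_step ⟨k, hk9⟩
      simp only [List.all_eq_true, decide_eq_true_eq] at h
      exact h S hS T hT
  obtain ⟨S, hS, L, hLS, hnd, hsgn, hout⟩ := stage 9 le_rfl
  set M : List (IrrCharacter G × ℤ) := (o, 1) :: L with hM
  have hMsgn : ∀ p ∈ M, p.2 = 1 ∨ p.2 = -1 := by
    intro p hp
    rcases List.mem_cons.1 hp with rfl | h
    exacts [Or.inl rfl, hsgn p h]
  set D : IrrCharacter G × ℤ → ℤ := fun p => p.2 * (Cfsg.charDegree (p.1 : G → ℂ) : ℤ) with hD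
  have hrow : ∀ (p : IrrCharacter G × ℤ) (j : Fin 9),
      (rowOf F 9 p).getD j.val 0 = p.2 * coord9 ι p.1 j := fun p j => by
    rw [rowOf, getD_map_range _ j.isLt, hF]
  have hval : ∀ (p : IrrCharacter G × ℤ) (a : Fin 3),
      rowVal a (rowOf F 9 p) = p.2 * jval ι p.1 a := by
    intro p a
    have e : rowOf F 9 p = List.ofFn fun j : Fin 9 => p.2 * coord9 ι p.1 j := by
      refine List.ext_getElem (by simp [rowOf]) fun j h1 h2 => ?_
      simp [rowOf] at h1
      simp only [rowOf, List.getElem_map, List.getElem_range, List.getElem_ofFn]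
      rw [← hF]
    rw [rowVal, e, vrow_eq, jval, Finset.mul_sum]
    simp [List.zip, List.sum_ofFn, Fin.sum_univ_succ]
    ring
  have hzero : ∀ χ : IrrCharacter G, χ ∉ M.map Prod.fst → ∀ k : Fin 9, coord9 ι χ k = 0 :=
    fun χ hχ k => (hF k χ).symm.trans (hout χ hχ k.val k.isLt)
  have hz : (S.zip (M.map D)) = M.map fun p => (rowOf F 9 p, D p) := by
    rw [← hLS, List.zip_map']
  refine final_false (N := (Nat.card G : ℤ)) (ds := M.map D) hS (by exact_mod_cast hN)
    (by exact_mod_cast h648) ⟨by simp [← hLS, hM], ?_, ?_, ?_, ?_, ?_, ?_⟩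
  · simp [hM, hD, o, CharX.charDegree_one]
  · intro d hd
    obtain ⟨p, hp, rfl⟩ := List.mem_map.1 hd
    have h1 := CharX.irr_deg_pos p.1
    rcases hMsgn p hp with e | e <;> simp [hD, e] <;> omega
  · intro j
    rw [hz, List.map_map]
    have h := coord_degree E j
    rw [sum_cover M hnd _ (fun χ hχ => by rw [hzero χ hχ, zero_mul])] at h
    refine Eq.trans ?_ h
    congr 1
    refine List.map_congr_left fun p hp => ?_
    show (rowOf F 9 p).getD j.val 0 * D p = _
    rw [hrow]
    simp only [hD]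
    rcases hMsgn p hp with e | e <;> rw [e] <;> ring
  · rw [List.map_map]
    have h : (List.map (fun p : IrrCharacter G × ℤ =>
        ((Cfsg.charDegree (p.1 : G → ℂ) : ℤ)) ^ 2) M).sum ≤ (Nat.card G : ℤ) := by
      rw [show (fun p : IrrCharacter G × ℤ => ((Cfsg.charDegree (p.1 : G → ℂ) : ℤ)) ^ 2) =
        (fun χ : IrrCharacter G => ((Cfsg.charDegree (χ : G → ℂ) : ℤ)) ^ 2) ∘ Prod.fst from rfl,
        ← List.map_map, ← List.sum_toFinset _ hnd]
      refine le_trans (Finset.sum_le_sum_of_subset_of_nonneg (Finset.subset_univ _)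
        fun _ _ _ => by positivity) ?_
      exact_mod_cast (CharX.sum_deg_sq (G := G)).le
    refine le_of_eq_of_le ?_ h
    congr 1
    refine List.map_congr_left fun p hp => ?_
    simp only [Function.comp, hD]
    rcases hMsgn p hp with e | e <;> rw [e] <;> ring
  · intro q hq
    rw [hz] at hq
    obtain ⟨p, hp, rfl⟩ := List.mem_map.1 hq
    obtain ⟨t, ht⟩ := degree_cong (ι := ι) p.1
    refine ⟨p.2 * t, ?_⟩
    simp only [hval, hD]
    linear_combination p.2 * ht
  · intro l
    rw [hz, List.map_map]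
    have key : ∀ p ∈ M, ((cubForm l (rowOf F 9 p) : ℤ) : ℚ) / (D p : ℤ) =
        ∑ m, (l m : ℚ) * ((jval ι p.1 (mon m).1 * jval ι p.1 (mon m).2.1 *
          jval ι p.1 (mon m).2.2 : ℤ) : ℚ) / (Cfsg.charDegree (p.1 : G → ℂ) : ℚ) := by
      intro p hp
      have hd : (Cfsg.charDegree (p.1 : G → ℂ) : ℚ) ≠ 0 :=
        Nat.cast_ne_zero.2 (CharX.irr_deg_pos p.1).ne'
      rw [← Finset.sum_div, div_eq_div_iff (by
        rcases hMsgn p hp with e | e <;> simp [hD, e, hd]) hd]
      simp only [cubForm, hval, hD, mon, Fin.sum_univ_succ, Fin.sum_univ_zero, add_zero]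
      simp only [Matrix.cons_val_zero, Matrix.cons_val_succ]
      push_cast
      rcases hMsgn p hp with e | e <;> rw [e] <;> push_cast <;> ring
    rw [show (M.map (((fun p : List ℤ × ℤ => (cubForm l p.1 : ℚ) / p.2)) ∘
        fun p => (rowOf F 9 p, D p))) = M.map _ from List.map_congr_left key,
      ← sum_cover M hnd (fun χ : IrrCharacter G => ∑ m, (l m : ℚ) *
        ((jval ι χ (mon m).1 * jval ι χ (mon m).2.1 * jval ι χ (mon m).2.2 : ℤ) : ℚ) /
          (Cfsg.charDegree (χ : G → ℂ) : ℚ)) (fun χ hχ => by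
        simp [jval, hzero χ hχ])]
    rw [Finset.sum_comm, Finset.mul_sum]
    push_cast
    refine Finset.sum_congr rfl fun m _ => ?_
    have h := cubic E sc m
    rw [show (cubTot m : ℚ) = (monTot m : ℚ) from rfl, ← h]
    simp only [mul_div_assoc, ← Finset.mul_sum]
    push_cast
    ring

end Cfsg.Agent.ThreeTI.Mono
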