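import Mathlib

/-!
A verified incremental search for the possible supports of a short list of integer vectors with
prescribed inner products.
-/

set_option autoImplicit false
set_option linter.unusedSectionVars false

namespace Cfsg.Agent.ThreeTI.Mono

/-- The dot product of `x` with the entries number `j` of the columns. -/
def dotAt (cs : List (List ℤ)) (x : List ℤ) (j : ℕ) : ℤ :=
  ((cs.zip x).map fun p => p.1.getD j 0 * p.2).sum

/-- An inner product cannot be reached if the remaining columns vanish there. -/
def feas (cs : List (List ℤ)) (need : List ℤ) : Bool :=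
  (List.range need.length).all fun j =>
    (need.getD j 0 == 0) || cs.any fun c => c.getD j 0 != 0

/-- The entries on known columns with given inner products and bounded norm. -/
def solve : List (List ℤ) → List ℤ → ℕ → List (List ℤ × ℕ)
  | [], need, left => if need.all (fun n => n == 0) then [([], left)] else []
  | c :: cs, need, left =>
    if feas (c :: cs) need then
      ([0, 1, -1, 2, -2] : List ℤ).flatMap fun e =>
        if e.natAbs * e.natAbs ≤ left then
          (solve cs ((List.range need.length).map fun j => need.getD j 0 - e * c.getD j 0)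
            (left - e.natAbs * e.natAbs)).map fun r => (e :: r.1, r.2)
        else []
    else []

theorem getD_map_range (f : ℕ → ℤ) {n j : ℕ} (h : j < n) :
    ((List.range n).map f).getD j 0 = f j := by
  simp [List.getD_eq_getElem?_getD, h]

theorem dotAt_zero (cs : List (List ℤ)) (x : List ℤ) (j : ℕ)
    (h : ∀ c ∈ cs, c.getD j 0 = 0) : dotAt cs x j = 0 := by
  refine List.sum_eq_zero fun a ha => ?_
  obtain ⟨⟨c, e⟩, hm, rfl⟩ := List.mem_map.1 ha
  show c.getD j 0 * e = 0
  rw [h c (List.of_mem_zip hm).1, zero_mul]

theorem solve_complete : ∀ (cs : List (List ℤ)) (x : List ℤ) (need : List ℤ) (left : ℕ),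
    x.length = cs.length → left < 9 → (∀ j < need.length, dotAt cs x j = need.getD j 0) →
    (x.map fun e => e.natAbs * e.natAbs).sum ≤ left →
    (x, left - (x.map fun e => e.natAbs * e.natAbs).sum) ∈ solve cs need left := by
  intro cs
  induction cs with
  | nil =>
    intro x need left hl _ hd _
    obtain rfl : x = [] := List.eq_nil_of_length_eq_zero hl
    have : need.all (fun n => n == 0) = true := by
      simp only [List.all_eq_true, beq_iff_eq]
      intro n hn
      obtain ⟨j, hj, rfl⟩ := List.mem_iff_getElem.1 hn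
      simpa [dotAt, List.getD_eq_getElem?_getD, hj] using (hd j hj).symm
    simp [solve, this]
  | cons c cs ih =>
    intro x need left hl h9 hd hs
    obtain ⟨e, x, rfl⟩ : ∃ e x', x = e :: x' := by
      cases x with
      | nil => simp at hl
      | cons a b => exact ⟨a, b, rfl⟩
    simp only [List.map_cons, List.sum_cons] at hs ⊢
    have hf : feas (c :: cs) need = true := by
      simp only [feas, List.all_eq_true, List.mem_range, Bool.or_eq_true, beq_iff_eq,
        List.any_eq_true, bne_iff_ne]
      intro j hj
      by_contra h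
      push Not at h
      exact h.1 (by rw [← hd j hj, dotAt_zero _ _ _ h.2])
    have he : e ∈ ([0, 1, -1, 2, -2] : List ℤ) := by
      have h2 : e.natAbs ≤ 2 := by
        by_contra h
        have : 3 * 3 ≤ e.natAbs * e.natAbs := Nat.mul_le_mul (by omega) (by omega)
        omega
      simp only [List.mem_cons, List.not_mem_nil, or_false]
      omega
    rw [solve, if_pos hf]
    refine List.mem_flatMap.2 ⟨e, he, ?_⟩
    rw [if_pos (by omega)]
    refine List.mem_map.2 ⟨(x, left - e.natAbs * e.natAbs -
      (x.map fun e => e.natAbs * e.natAbs).sum), ?_, by simp [Nat.sub_sub]⟩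
    refine ih x _ _ (by simpa using hl) (by omega) (fun j hj => ?_) (by omega)
    simp only [List.length_map, List.length_range] at hj
    rw [getD_map_range _ hj, ← hd j hj]
    simp [dotAt, mul_comm]

/-- The possible absolute values of the entries on new columns. -/
def news : ℕ → List (List ℤ)
  | 0 => [[]]
  | 1 => [[1]]
  | 2 => [[1, 1]]
  | 3 => [[1, 1, 1]]
  | 4 => [[1, 1, 1, 1], [2]]
  | _ => []

theorem perm_mem_news (l : List ℤ) (hpos : ∀ e ∈ l, 0 < e)
    (h4 : (l.map fun e => e.natAbs * e.natAbs).sum ≤ 4) :
    ∃ n ∈ news (l.map fun e => e.natAbs * e.natAbs).sum, l.Perm n := by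
  have hlen : l.length ≤ (l.map fun e => e.natAbs * e.natAbs).sum := by
    have h := List.card_nsmul_le_sum (l.map fun e => e.natAbs * e.natAbs) 1 (by
      intro a ha
      obtain ⟨e, he, rfl⟩ := List.mem_map.1 ha
      have := hpos e he
      have : 1 ≤ e.natAbs := by omega
      nlinarith)
    simpa using h
  have h2 : ∀ e ∈ l, e = 1 ∨ e = 2 := by
    intro e he
    have h := List.single_le_sum (l := l.map fun e => e.natAbs * e.natAbs) (fun _ _ => Nat.zero_le _)
      _ (List.mem_map.2 ⟨e, he, rfl⟩)
    have h0 := hpos e he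
    have : e.natAbs ≤ 2 := by nlinarith
    omega
  rcases l with _ | ⟨a, _ | ⟨b, _ | ⟨c, _ | ⟨d, _ | ⟨f, t⟩⟩⟩⟩⟩
  · exact ⟨[], by simp [news], .refl _⟩
  · rcases h2 a (by simp) with rfl | rfl <;> refine ⟨_, ?_, .refl _⟩ <;> simp [news]
  · rcases h2 a (by simp) with rfl | rfl <;> rcases h2 b (by simp) with rfl | rfl <;>
      simp_all [news]
  · rcases h2 a (by simp) with rfl | rfl <;> rcases h2 b (by simp) with rfl | rfl <;>
      rcases h2 c (by simp) with rfl | rfl <;> simp_all [news]
  · rcases h2 a (by simp) with rfl | rfl <;> rcases h2 b (by simp) with rfl | rfl <;>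
      rcases h2 c (by simp) with rfl | rfl <;> rcases h2 d (by simp) with rfl | rfl <;>
      simp_all [news]
  · simp only [List.length_cons] at hlen
    omega

/-- A lexicographic comparison. -/
def lexLE : List ℤ → List ℤ → Bool
  | [], _ => true
  | _ :: _, [] => false
  | a :: l, b :: m => if a < b then true else if b < a then false else lexLE l m

/-- Insert a column. -/
def insertCol (c : List ℤ) : List (List ℤ) → List (List ℤ)
  | [] => [c]
  | d :: l => if lexLE c d then c :: d :: l else d :: insertCol c l

/-- Sort the columns. -/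
def sortCols : List (List ℤ) → List (List ℤ)
  | [] => []
  | c :: l => insertCol c (sortCols l)

theorem insertCol_perm (c : List ℤ) : ∀ l : List (List ℤ), (insertCol c l).Perm (c :: l)
  | [] => .refl _
  | d :: l => by
    rw [insertCol]
    split_ifs
    · exact .refl _
    · exact ((insertCol_perm c l).cons d).trans (.swap c d l)

theorem sortCols_perm : ∀ l : List (List ℤ), (sortCols l).Perm l
  | [] => .refl _
  | c :: l => (insertCol_perm c _).trans ((sortCols_perm l).cons c)

theorem exists_perm_map {α β : Type*} (f : α → β) :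
    ∀ {l : List α} {m : List β}, (l.map f).Perm m → ∃ l', l.Perm l' ∧ l'.map f = m := by
  intro l m h
  generalize e : l.map f = x at h
  induction h generalizing l with
  | nil => exact ⟨l, .refl _, e⟩
  | cons b _ ih =>
    obtain ⟨a, l, rfl, rfl, rfl⟩ := List.map_eq_cons_iff.1 e
    obtain ⟨l', h1, h2⟩ := ih rfl
    exact ⟨a :: l', h1.cons a, by simp [h2]⟩
  | swap b c t =>
    obtain ⟨a, l, rfl, rfl, e'⟩ := List.map_eq_cons_iff.1 e
    obtain ⟨a', l, rfl, rfl, rfl⟩ := List.map_eq_cons_iff.1 e'
    exact ⟨a' :: a :: l, .swap _ _ _, by simp⟩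
  | trans _ _ ih₁ ih₂ =>
    obtain ⟨l', h1, h2⟩ := ih₁ e
    obtain ⟨l'', h3, h4⟩ := ih₂ h2
    exact ⟨l'', h1.trans h3, h4⟩

/-- All ways of adding one vector, with first entry `c0`, to a configuration. -/
def extend (k : ℕ) (S : List (List ℤ)) (c0 : ℤ) (need : List ℤ) (norm : ℕ) :
    List (List (List ℤ)) :=
  match S with
  | [] => []
  | h :: t =>
    let need' := (List.range k).map fun j => need.getD j 0 - c0 * h.getD j 0
    (solve t need' (norm - c0.natAbs * c0.natAbs)).flatMap fun r =>
      (news r.2).map fun nw => (h ++ [c0]) ::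
        sortCols (((t.zip r.1).map fun p => p.1 ++ [p.2]) ++
          nw.map fun e => List.replicate k 0 ++ [e])

variable {I : Type*} [Fintype I] [DecidableEq I]

/-- The first `k` entries of a signed row. -/
def rowOf (F : ℕ → I → ℤ) (k : ℕ) (p : I × ℤ) : List ℤ :=
  (List.range k).map fun j => p.2 * F j p.1

/-- The configuration `S` describes the first `k` vectors. -/
def Cover (F : ℕ → I → ℤ) (o : I) (k : ℕ) (S : List (List ℤ)) : Prop :=
  ∃ L : List (I × ℤ), (((o, 1) :: L).map (rowOf F k) = S) ∧
    (((o, 1) :: L).map Prod.fst).Nodup ∧ (∀ p ∈ L, p.2 = 1 ∨ p.2 = -1) ∧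
    ∀ i, i ∉ ((o, 1) :: L).map Prod.fst → ∀ j < k, F j i = 0

theorem cover_zero (F : ℕ → I → ℤ) (o : I) : Cover F o 0 [[]] :=
  ⟨[], by simp [rowOf], by simp, by simp, by simp⟩

theorem sum_cover {M : Type*} [AddCommMonoid M] (L : List (I × ℤ)) (h : (L.map Prod.fst).Nodup)
    (f : I → M) (hf : ∀ i, i ∉ L.map Prod.fst → f i = 0) :
    ∑ i, f i = (L.map fun p => f p.1).sum := by
  rw [show (L.map fun p => f p.1) = (L.map Prod.fst).map f by simp [Function.comp_def],
    ← List.sum_toFinset f h]
  exact (Finset.sum_subset (Finset.subset_univ _) fun i _ hi => hf i (by simpa using hi)).symm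

theorem rowOf_succ (F : ℕ → I → ℤ) (k : ℕ) (p : I × ℤ) :
    rowOf F (k + 1) p = rowOf F k p ++ [p.2 * F k p.1] := by
  simp [rowOf, List.range_succ]

theorem cover_succ (F : ℕ → I → ℤ) (o : I) {k : ℕ} {S : List (List ℤ)} (hS : Cover F o k S)
    {c0 : ℤ} {need : List ℤ} {norm : ℕ} (hn : norm ≤ 4) (hc0 : F k o = c0)
    (hneed : ∀ j < k, ∑ i, F j i * F k i = need.getD j 0)
    (hnorm : ∑ i, F k i * F k i = norm) :
    ∃ T ∈ extend k S c0 need norm, Cover F o (k + 1) T := by
  obtain ⟨L, rfl, hnd, hsgn, hout⟩ := hS
  set ids := ((o, (1 : ℤ)) :: L).map Prod.fst with hids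
  -- the new columns
  set N := (Finset.univ.filter fun i => i ∉ ids ∧ F k i ≠ 0) with hN
  set P : List (I × ℤ) := N.toList.map fun i => (i, if 0 < F k i then 1 else -1) with hP
  have hPfst : P.map Prod.fst = N.toList := by simp [hP, Function.comp_def]
  have hPsgn : ∀ p ∈ P, p.2 = 1 ∨ p.2 = -1 := by
    intro p hp
    obtain ⟨i, -, rfl⟩ := List.mem_map.1 hp
    show (if 0 < F k i then (1 : ℤ) else -1) = 1 ∨ (if 0 < F k i then (1 : ℤ) else -1) = -1
    split_ifs
    exacts [Or.inl rfl, Or.inr rfl]
  have hnd' : (ids ++ P.map Prod.fst).Nodup := by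
    rw [List.nodup_append]
    refine ⟨hnd, by rw [hPfst]; exact N.nodup_toList, fun i hi j hj hij => ?_⟩
    rw [hPfst, Finset.mem_toList, hN, Finset.mem_filter] at hj
    exact hj.2.1 (hij ▸ hi)
  have hzero : ∀ i, i ∉ ((o, (1 : ℤ)) :: L ++ P).map Prod.fst → F k i = 0 := by
    intro i hi
    by_contra h
    refine hi ?_
    rw [List.map_append, List.mem_append]
    by_cases h1 : i ∈ ids
    · exact Or.inl h1
    · exact Or.inr (by rw [hPfst, Finset.mem_toList, hN, Finset.mem_filter]; simp [h1, h])
  have hsq : ∀ p : I × ℤ, p.2 = 1 ∨ p.2 = -1 →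
      ((p.2 * F k p.1).natAbs * (p.2 * F k p.1).natAbs : ℤ) = F k p.1 * F k p.1 := by
    intro p hp
    rw [Int.natAbs_mul_self']
    rcases hp with e | e <;> rw [e] <;> ring
  clear_value P
  set x := L.map fun p => p.2 * F k p.1 with hx
  set y := P.map fun p => p.2 * F k p.1 with hy
  have hnorm' : c0.natAbs * c0.natAbs + (x.map fun e => e.natAbs * e.natAbs).sum +
      (y.map fun e => e.natAbs * e.natAbs).sum = norm := by
    rw [sum_cover (((o, (1 : ℤ)) :: L) ++ P) (by rw [List.map_append]; exact hnd') _
      (fun i hi => by rw [hzero i hi, zero_mul])] at hnorm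
    simp only [List.map_append, List.map_cons, List.sum_append, List.sum_cons, hc0] at hnorm
    have e : ∀ Q : List (I × ℤ), (∀ p ∈ Q, p.2 = 1 ∨ p.2 = -1) →
        ((((Q.map fun p => p.2 * F k p.1).map fun e => e.natAbs * e.natAbs).sum : ℕ) : ℤ) =
          (Q.map fun p => F k p.1 * F k p.1).sum := by
      intro Q hQ
      induction Q with
      | nil => simp
      | cons p Q ih =>
        simp only [List.map_cons, List.sum_cons, Nat.cast_add, Nat.cast_mul]
        rw [ih fun q hq => hQ q (List.mem_cons_of_mem _ hq), hsq p (hQ p List.mem_cons_self)]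
    have hh : ((c0.natAbs * c0.natAbs : ℕ) : ℤ) = c0 * c0 := by
      rw [Nat.cast_mul, Int.natAbs_mul_self']
    have e1 := e L hsgn
    have e2 := e P hPsgn
    rw [← hx] at e1
    rw [← hy] at e2
    omega
  have hsolve := solve_complete (L.map (rowOf F k)) x
    ((List.range k).map fun j => need.getD j 0 - c0 * (rowOf F k (o, 1)).getD j 0)
    (norm - c0.natAbs * c0.natAbs) (by simp [hx]) (by omega) (fun j hj => ?_) (by omega)
  · have hy4 : (y.map fun e => e.natAbs * e.natAbs).sum ≤ 4 := by omega
    have hypos : ∀ e ∈ y, 0 < e := by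
      intro e he
      simp only [hy, hP, List.map_map, List.mem_map, Function.comp, Finset.mem_toList, hN,
        Finset.mem_filter] at he
      obtain ⟨i, ⟨-, -, hi⟩, rfl⟩ := he
      split_ifs with h <;> omega
    obtain ⟨nw, hnw, hperm⟩ := perm_mem_news y hypos hy4
    -- the rows of the enlarged list
    have hrows : ((L ++ P).map (rowOf F (k + 1))).Perm
        (sortCols ((((L.map (rowOf F k)).zip x).map fun p => p.1 ++ [p.2]) ++
          nw.map fun e => List.replicate k 0 ++ [e])) := by
      refine List.Perm.trans ?_ (sortCols_perm _).symm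
      rw [List.map_append]
      refine List.Perm.append ?_ ?_
      · rw [hx, List.zip_map', List.map_map]
        refine List.Perm.of_eq (List.map_congr_left fun p _ => ?_)
        exact rowOf_succ F k p
      · refine List.Perm.trans (List.Perm.of_eq ?_) (hperm.map _)
        rw [hy, List.map_map]
        refine List.map_congr_left fun p hp => ?_
        rw [Function.comp, rowOf_succ]
        congr 1
        have hp1 : p.1 ∉ ids := by
          have : p.1 ∈ P.map Prod.fst := List.mem_map.2 ⟨p, hp, rfl⟩
          rw [hPfst, Finset.mem_toList, hN, Finset.mem_filter] at this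
          exact this.2.1
        refine List.eq_replicate_iff.2 ⟨by simp [rowOf], fun a ha => ?_⟩
        obtain ⟨j, hj, rfl⟩ := List.mem_map.1 ha
        rw [hout _ hp1 j (List.mem_range.1 hj), mul_zero]
    obtain ⟨L', hL', hL'e⟩ := exists_perm_map (rowOf F (k + 1)) hrows
    refine ⟨rowOf F (k + 1) (o, 1) :: L'.map (rowOf F (k + 1)), ?_, L', rfl, ?_, ?_, ?_⟩
    · simp only [extend, List.map_cons]
      refine List.mem_flatMap.2 ⟨_, hsolve, List.mem_map.2 ⟨nw, ?_, ?_⟩⟩
      · have e : norm - c0.natAbs * c0.natAbs - (x.map fun e => e.natAbs * e.natAbs).sum =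
          (y.map fun e => e.natAbs * e.natAbs).sum := by omega
        rw [e]
        exact hnw
      · rw [hL'e, rowOf_succ, one_mul, hc0]
    · rw [List.map_cons, ((hL'.map Prod.fst).cons o).symm.nodup_iff]
      simpa [hids] using hnd'
    · intro p hp
      rcases List.mem_append.1 (hL'.mem_iff.2 hp) with h | h
      exacts [hsgn p h, hPsgn p h]
    · intro i hi j hj
      have hi' : i ∉ ((o, (1 : ℤ)) :: L ++ P).map Prod.fst := fun h => hi (by
        simpa [List.cons_append] using ((hL'.map Prod.fst).cons o).mem_iff.1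
          (by simpa [List.cons_append] using h))
      rcases Nat.lt_succ_iff_lt_or_eq.1 hj with hj' | rfl
      · exact hout i (fun h => hi' (by rw [List.map_append]; exact List.mem_append_left _ h)) j hj'
      · exact hzero i hi'
  · -- the inner products
    simp only [List.length_map, List.length_range] at hj
    rw [getD_map_range _ hj, rowOf, getD_map_range _ hj, ← hneed j hj, one_mul,
      sum_cover ((o, 1) :: L) hnd _ (fun i hi => by rw [hout i hi j hj, zero_mul])]
    simp only [List.map_cons, List.sum_cons, hc0]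
    rw [mul_comm c0, add_sub_cancel_left, dotAt, hx, List.zip_map', List.map_map]
    congr 1
    refine List.map_congr_left fun p hp => ?_
    show ((List.range k).map fun j => p.2 * F j p.1).getD j 0 * (p.2 * F k p.1) = _
    rw [getD_map_range _ hj]
    rcases hsgn p hp with e | e <;> rw [e] <;> ring

end Cfsg.Agent.ThreeTI.Mono
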