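import Cfsg.Agent.Lib.ThreeTI.Mono.Model

/-!
Class sums of the fifteen linear characters.
-/

set_option autoImplicit false
set_option maxRecDepth 40000

namespace Cfsg.Agent.ThreeTI.Mono

open Cfsg.Agent.ThreeTI.Cube (V)

/-- The rational parts of the class sums. -/
def sRat : Fin 15 → Fin 14 → ℤ :=
  ![
    ![2, 54, 108, 144, 108, 12, 24, 16, 108, 216, 144, 144, 108, 108],
    ![2, 54, -108, 144, -108, 12, 24, 16, 108, -216, 144, 144, -108, -108],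
    ![6, 162, 108, 0, 108, 36, 72, 48, 324, 216, 0, 0, 108, 108],
    ![8, 0, 216, 144, 0, 48, 96, 64, 0, 432, 144, 144, 0, 0],
    ![8, 0, -216, 144, 0, 48, 96, 64, 0, -432, 144, 144, 0, 0],
    ![12, 108, 0, 0, 216, 36, 0, -48, -108, 0, 0, 0, -108, -108],
    ![12, -108, 0, 0, 0, 36, 0, -48, 108, 0, 0, 0, 0, 0],
    ![12, 108, 0, 0, -216, 36, 0, -48, -108, 0, 0, 0, 108, 108],
    ![12, -108, 0, 0, 0, 36, 0, -48, 108, 0, 0, 0, 0, 0],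
    ![24, 0, 216, 0, 0, 0, -72, 48, 0, -216, 0, 0, 0, 0],
    ![24, 0, -216, 0, 0, 0, -72, 48, 0, 216, 0, 0, 0, 0],
    ![16, 0, 0, 288, 0, -48, 48, -16, 0, 0, -144, -144, 0, 0],
    ![16, 0, 0, -144, 0, -48, 48, -16, 0, 0, 288, -144, 0, 0],
    ![16, 0, 0, -144, 0, -48, 48, -16, 0, 0, -144, 288, 0, 0],
    ![48, 0, 0, 0, 0, 288, 576, 384, 0, 0, 0, 0, 0, 0]]

/-- The irrational parts of the class sums. -/
def sIrr : Fin 15 → Fin 14 → ℤ :=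
  ![
    ![0, 0, 0, 0, 0, 0, 0, 0, 0, 0, 0, 0, 0, 0],
    ![0, 0, 0, 0, 0, 0, 0, 0, 0, 0, 0, 0, 0, 0],
    ![0, 0, 0, 0, 0, 0, 0, 0, 0, 0, 0, 0, 0, 0],
    ![0, 0, 0, 0, 0, 0, 0, 0, 0, 0, 0, 0, 0, 0],
    ![0, 0, 0, 0, 0, 0, 0, 0, 0, 0, 0, 0, 0, 0],
    ![0, 0, 0, 0, 0, 0, 0, 0, 0, 0, 0, 0, 0, 0],
    ![0, 0, 0, 0, 0, 0, 0, 0, 0, 0, 0, 0, -108, 108],
    ![0, 0, 0, 0, 0, 0, 0, 0, 0, 0, 0, 0, 0, 0],
    ![0, 0, 0, 0, 0, 0, 0, 0, 0, 0, 0, 0, 108, -108],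
    ![0, 0, 0, 0, 0, 0, 0, 0, 0, 0, 0, 0, 0, 0],
    ![0, 0, 0, 0, 0, 0, 0, 0, 0, 0, 0, 0, 0, 0],
    ![0, 0, 0, 0, 0, 0, 0, 0, 0, 0, 0, 0, 0, 0],
    ![0, 0, 0, 0, 0, 0, 0, 0, 0, 0, 0, 0, 0, 0],
    ![0, 0, 0, 0, 0, 0, 0, 0, 0, 0, 0, 0, 0, 0],
    ![0, 0, 0, 0, 0, 0, 0, 0, 0, 0, 0, 0, 0, 0]]

/-- The exponent of a linear character. -/
def kk (b : Fin 15) (m : Mo) : ZMod 12 :=
  4 * ((bCo b 0 * coord m.left 0 + bCo b 1 * coord m.left 1 + bCo b 2 * coord m.left 2).val : ZMod 12)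
    + bExp b m.right.i

/-- The rational part of twice a cosine. -/
def cR (k : ZMod 12) : ℤ := (![2, 0, 1, 0, -1, 0, -2, 0, -1, 0, 1, 0] : Fin 12 → ℤ) k

/-- The irrational part of twice a cosine. -/
def cI (k : ZMod 12) : ℤ := (![0, 1, 0, 0, 0, -1, 0, -1, 0, 0, 0, 1] : Fin 12 → ℤ) k

/-- A class sum over the elements of one subgroup. -/
def classSum (c : ZMod 12 → ℤ) (b : Fin 15) (i : Fin 14) : ℤ :=
  ∑ q ∈ Finset.univ.filter (fun q : Rot => bMem b q.i = true),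
    ∑ v : V, if cl ⟨v, q⟩ = i then (bIdx b : ℤ) * c (kk b ⟨v, q⟩) else 0

theorem classSum_rat : ∀ b i, classSum cR b i = sRat b i := by decide +kernel

theorem classSum_irr : ∀ b i, classSum cI b i = sIrr b i := by decide +kernel

theorem mem_mul : ∀ (b : Fin 15) (q r : Rot), bMem b q.i = true → bMem b r.i = true →
    bMem b (q * r).i = true ∧ bExp b (q * r).i = bExp b q.i + bExp b r.i := by decide +kernel

theorem mem_one : ∀ b : Fin 15, bMem b (1 : Rot).i = true ∧ bExp b (1 : Rot).i = 0 := by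
  decide +kernel

theorem mem_inv : ∀ (b : Fin 15) (q : Rot), bMem b q.i = true → bMem b q⁻¹.i = true := by
  decide +kernel

theorem form_inv : ∀ (b : Fin 15) (q : Rot), bMem b q.i = true → ∀ v : V,
    bCo b 0 * coord (actFn q v) 0 + bCo b 1 * coord (actFn q v) 1 + bCo b 2 * coord (actFn q v) 2 =
      bCo b 0 * coord v 0 + bCo b 1 * coord v 1 + bCo b 2 * coord v 2 := by decide +kernel

theorem card_mem : ∀ b : Fin 15,
    bIdx b * (Finset.univ.filter fun q : Rot => bMem b q.i = true).card = 24 := by decide +kernel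

theorem weights : ∀ k i, ∑ b, fBase k b * sRat b i = wRat k i ∧
    ∑ b, fBase k b * sIrr b i = wIrr k i := by decide +kernel

end Cfsg.Agent.ThreeTI.Mono
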